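import Cfsg.Agent.MQ.S.M35.Loc
import Cfsg.Agent.MQ.S.B.Tri
import Cfsg.Agent.TAB.Co2.Main
import Cfsg.Agent.S2070
import Cfsg.Agent.MQ.A.Glob.Main
import Cfsg.Agent.MK.S5.Mov_m3
import Cfsg.Agent.HN.CoverUnique
import Cfsg.Agent.TAB.HN.CertB_m3
import Cfsg.Agent.MQ.S.E62Y.Dat
import Cfsg.Agent.TAB.Use.Defs_m3
import Cfsg.Agent.MQ.S.Fi22.Loc
import Cfsg.Agent.MQ.S.F22T.Dat
import Cfsg.Agent.TAB.F22.Cov
import Cfsg.Agent.MQ.S.F22T.Main
import Cfsg.Agent.MQ.S.B3.Loc
import Cfsg.Agent.Lib.FinFast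
import Cfsg.Agent.FastGrp
import Cfsg.Agent.Prune
set_option linter.all false
prune_inst 0x7f00000000000000000000000000000000000000000000000000000000000000000000000000000000000000000000000000000000000000000000000000000000000000000000000000000000000000003fffffffffffffffffffffffffffbeffbdfbfeffff
open scoped Cfsg.Agent.FastGrp

-- part: MO/S/Co2/Loc
section
/-!
# MO, the row `Co2` : Sylow subgroups and their normalisers, `p = 3, 5` (helper7)

Model on 2300 points with codes in `F₂²²` of helper633; data by `tools/P3/pc/co2.py`.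
-/

set_option autoImplicit false
set_option maxRecDepth 100000

namespace Cfsg.Agent.MO.S.Co2

open Cfsg Subgroup Cfsg.Agent.MO.S.Pc Cfsg.Agent.H633.Ore Cfsg.Agent.H633.Ore.Co2 Cfsg.Agent.H633.Ore.Co2D
open Cfsg.Agent.MK.S.Pc (ev ev_nil ev_cons V)
open Cfsg.Agent.H843.IMC.Co2B (Y)

/-- the letters -/
def LW5 : List (List ℕ) := [[0, 1, 2, 1, 2, 1, 0, 1, 2, 1, 2, 1, 2, 1, 0, 1, 2, 0, 1, 2, 0, 1, 0, 1, 2, 0, 1, 2, 0, 2, 0, 1, 2, 1,
    0, 2, 0, 1, 2, 1, 2, 1, 0, 2, 1, 0, 2, 1, 0, 2, 1, 0, 2, 1, 0, 2, 0, 1, 2, 1, 2, 1, 0, 2, 1, 0, 2, 1, 2, 1, 0, 2, 0, 1, 2, 1,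
    2, 0, 2, 0, 2, 1, 2, 1, 0, 2, 0, 2, 1, 2, 1, 0, 2, 0, 1, 2, 1, 2, 1, 0],
  [0, 2, 0, 2, 1, 2, 1, 2, 0, 1, 0, 2, 1, 0, 2, 1, 2, 1, 2, 0, 2, 0, 2, 1, 0, 1, 2, 0, 2, 1, 2, 1, 2, 0, 1, 0, 2, 1, 2, 0, 2, 0,
    2, 1, 0, 1, 2, 1, 0, 2, 1, 0, 2, 1, 2, 0, 1, 0, 1, 2, 0, 2, 1, 0, 1, 0, 2, 1, 2, 0, 2, 0, 1, 2, 0, 2, 1, 0, 2, 1, 2, 1, 2, 1,
    0, 1, 2, 0, 2, 1, 0, 2, 0, 1, 0, 1, 2, 0, 2],
  [0, 2, 1, 0, 2, 0, 1, 2, 1, 2, 1, 0, 2, 0, 1, 0, 2, 0, 2, 0, 1, 2, 1, 2, 0, 1, 2, 0, 1, 2, 0, 1, 2, 1, 0, 2, 1, 0, 1, 2, 0, 1,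
    0, 1, 2, 0, 1, 2, 0, 1, 2, 0, 2, 1, 0, 2, 0, 2, 1, 0, 1, 0, 2, 1, 2, 1, 2, 0, 2, 0, 2, 1, 2, 0, 2, 1, 2, 1, 0, 1, 2, 0, 2, 0,
    1, 2, 0, 1, 0, 1, 0, 2, 1, 0, 1, 2, 0, 2, 0, 1, 2, 0, 1, 2, 0, 1, 2, 0, 2, 1, 0, 1, 2, 0, 2, 1, 0, 2, 1, 0, 2, 1, 0, 2, 0],
  [2, 1, 0, 2, 1, 0, 2, 0, 1, 0, 1, 2, 0, 2, 1, 0, 1, 2, 1, 2, 0, 1, 2, 1, 2, 0, 2, 1, 0, 1, 2, 0, 2, 1, 0, 2, 0, 1, 0, 1, 2, 0,
    2, 0, 1, 2, 1, 2, 0, 2, 1, 2, 1, 2, 1, 0, 1, 2, 1, 2, 0, 1, 0, 1, 2, 0, 2, 1, 2, 0, 1, 2, 0, 2, 0, 2, 1, 2, 1, 2, 1, 0, 2, 1,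
    2, 0, 1, 0, 1, 0, 2, 1, 2, 0, 1, 2, 1, 2, 1, 2, 0, 2, 0, 2, 1, 0, 2, 1, 2, 0, 2, 1, 0, 1, 0, 2, 1, 0, 2, 0, 2, 0, 2, 1],
  [1, 0, 1, 2, 0, 2, 0, 1, 2, 1, 0, 2, 1, 0, 2, 0, 1, 2, 1, 0, 1, 2, 1, 2, 0, 1, 2, 0, 1, 0, 2, 0, 1, 2, 0, 1, 0, 2, 0, 1, 2, 0,
    2, 1, 0, 2, 0, 1, 0, 2, 1, 0, 1, 2, 1, 2, 1, 0, 2, 0, 1, 2, 0, 1, 2, 1, 0, 2, 1, 0, 2, 0, 1, 2, 1, 2, 1, 2, 1, 0, 2, 1, 2, 1,
    2, 1, 0, 1, 2, 0, 1, 2, 1, 0, 1, 2, 0, 2, 1, 0, 1, 0, 2, 0, 1, 0, 2, 1, 0, 1, 2, 0, 1, 0, 2, 0, 2, 1, 0, 2, 0, 2, 1, 0, 1, 2,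
    1, 2, 0, 2, 0, 2, 0, 1, 2, 1, 0, 2, 0]]

/-- the relations -/
def cert5 : Cert where
  pw := [[], [], []]
  cm := [[[], [2], []], [[], [], []], [[], [], []]]
  dv := [([], [], []), ([], [], []), ([0], [1], [])]

/-- the chain of stabilizers -/
def lv5 : List (ℕ × List (List ℕ)) := [(2161697, [[2], [0, 1, 1, 1], [0, 0, 2], [0], [0, 0, 0, 0], [0, 2, 2, 2, 2], [1, 2], [0, 2,
    2, 2], [1], [2, 2], [0, 0, 0, 2, 2], [2, 2, 2], [0, 0, 0], [], [2, 2, 2, 2], [0, 0, 2, 2], [0, 2], [0, 2, 2], [0, 0], [1, 1,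
    1, 2, 2], [1, 1], [1, 1, 2], [0, 1, 1], [1, 1, 1, 2, 2, 2], [0, 1, 1, 2]]),
  (1, [[], [0, 0, 0, 1, 1, 1, 2, 2, 2, 2], [0, 1, 2, 2, 2, 2], [0, 0, 0, 0, 1, 1, 1, 1], [0, 0, 1, 1, 2, 2]])]

/-- the action of the letters from 3 on -/
def RR5 : List (List (List ℕ)) := [[[1, 4, 1], [3, 0, 3], [0, 0, 3]],
  [[4, 2, 4], [3, 1, 2], [0, 0, 3]]]

/-- the matrices of the letters -/
def MM5 : List (List ℕ) := [[432952, 3571096, 2703696, 2972137, 4155339, 1257969, 1120015, 3188678, 1411164, 952979, 2297739,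
    640542, 535595, 70986, 4081163, 3636669, 3425424, 86577, 3270258, 952108, 993140, 3593128],
  [2022935, 2914345, 1359239, 2094555, 1695705, 2965435, 3805541, 1045703, 2572180, 2858755, 1286090, 2435043, 2719952, 2032889,
    3479250, 3741189, 2872651, 894261, 2297858, 3194304, 2961243, 2789237],
  [2515670, 1768835, 1492005, 2704174, 4011097, 3179704, 980537, 1703057, 2094555, 4118786, 1323050, 1846999, 3758726, 3174901,
    3305377, 2424150, 3598482, 2971304, 2053450, 48392, 2987762, 82195],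
  [2526084, 3836251, 1584791, 3614930, 613584, 1773819, 3093724, 3194304, 2276251, 1236906, 217350, 2844865, 4076560, 1354735,
    2659570, 1371572, 2504216, 2247752, 2406845, 3313166, 1624930, 3852834],
  [132160, 2574686, 125291, 2297882, 2145321, 16408, 1659441, 637929, 4189671, 2863623, 1550169, 2287560, 3425409, 717151,
    2844865, 124994, 4137304, 3129632, 3163195, 2256184, 2515934, 3183479]]

theorem m5 : L.chkM 5 2 RR5 (L.idM 2) [1, 1, 1, 2, 1, 1, 2, 1, 1, 2, 1, 0, 0, 0, 0, 2, 2, 2, 0, 0, 0, 0, 0, 2, 2, 2, 2, 2, 2, 0,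
    0, 0, 0, 0, 0, 0, 2, 2, 2, 2, 2, 2, 0, 0, 0, 0, 0, 0, 0, 0, 2, 1, 1, 2, 1, 1, 2, 1, 0, 0, 0, 0, 2, 2, 2, 0, 0, 0, 0, 0, 2, 2,
    2, 2, 2, 2, 0, 0, 0, 0, 0, 0, 0, 2, 2, 2, 2, 2, 2, 0, 0, 0, 0, 0, 0, 0, 0, 2, 1, 1, 2, 1, 1, 2, 1, 0, 0, 0, 0, 2, 2, 2, 0, 0,
    0, 0, 0, 2, 2, 2, 2, 2, 2, 0, 0, 0, 0, 0, 0, 0, 2, 2, 2, 2, 2, 2, 0, 0, 0, 0, 0, 0, 0, 0, 2, 1, 1, 2, 1, 1, 2, 1, 0, 0, 0, 0,
    2, 2, 2, 0, 0, 0, 0, 0, 2, 2, 2, 2, 2, 2, 0, 0, 0, 0, 0, 0, 0, 2, 2, 2, 2, 2, 2] 96 20 = true := by decide +kernel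

/-- the letters -/
def LW3 : List (List ℕ) := [[2, 0, 2, 1, 0, 1, 0, 1, 0, 1, 2, 0, 1, 0, 1, 2, 0, 2, 1, 2, 1, 0, 1, 0, 1, 0, 2, 0, 2, 0, 1, 2, 0, 2,
    0, 2, 1, 2, 1, 2, 0, 2, 0, 2, 0, 2, 0, 1, 0, 2, 0, 2, 1, 2, 0, 1, 0, 1, 2, 1, 2, 0, 2, 1, 2, 1, 2, 1, 0, 1, 2, 1, 2, 1, 0, 2,
    0, 2, 0, 2, 1, 2, 1, 2, 1, 0, 1, 2, 0, 2, 0, 1, 2],
  [2, 0, 2, 0, 2, 1, 0, 2, 1, 2, 1, 2, 1, 2, 0, 2, 1, 0, 2, 1, 2, 1, 0, 2, 0, 1, 2, 0, 2, 1, 0, 1, 0, 2, 1, 2, 1, 0, 1, 2, 0, 2,
    0, 2, 1, 2, 0, 2, 0, 1, 2, 0, 2, 1, 2, 1, 2, 1, 0, 2, 0, 2, 1, 0, 2, 1, 0, 2, 0, 2, 1, 2, 1, 2, 1, 0, 2, 1, 2, 0, 2, 0, 2, 0,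
    2, 0, 1, 2, 0, 1, 0, 2, 0, 2, 0, 2, 1, 2, 0, 1, 2, 0, 1, 2, 0, 1, 2, 0, 2, 1, 0, 1, 2, 0, 2, 1, 0, 2, 1, 0, 2, 1, 0, 2, 1, 2,
    0, 1, 2, 0, 2, 1, 2, 1],
  [2, 0, 1, 0, 1, 0, 1, 2, 1, 2, 0, 2, 1, 0, 1, 0, 2, 1, 2, 1, 0, 1, 2, 0, 2, 0, 1, 2, 1, 2, 0, 1, 2, 1, 0, 1, 2, 0, 1, 2, 1, 0,
    2, 0, 2, 0, 1, 2, 1, 0, 2, 1, 0, 2, 1, 0, 1, 2, 1, 2, 0, 1, 2, 1, 2, 0, 1, 0, 1, 2, 1, 2, 0, 2, 1, 2, 1, 0, 1, 2, 1, 2, 1, 0,
    2, 0, 1, 2, 0, 1, 2, 1, 0, 2, 1, 0, 2, 0, 1, 0, 2, 1, 2, 1, 2, 1, 0, 1, 0, 2, 1, 2, 0, 1, 2, 1, 2, 0, 2, 1, 2, 1, 0, 2, 1, 2,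
    0, 1, 0, 1, 0, 1, 2, 1, 0, 2, 0, 2, 1, 0],
  [2, 1, 0, 2, 0, 2, 1, 2, 1, 0, 2, 1, 0, 1, 2, 0, 2, 0, 2, 1, 0, 2, 1, 0, 1, 2, 1, 2, 1, 0, 2, 1, 0, 1, 0, 1, 0, 2, 1, 2, 0, 1,
    2, 1, 2, 1, 2, 0, 2, 1, 0, 1, 2, 0, 1, 2, 0, 2, 1, 0, 1, 0, 2, 0, 2, 1, 2, 1, 2, 0, 1, 0, 1, 2, 0, 1, 0, 2, 1, 2, 0, 2, 1, 2,
    0, 1, 0, 2, 0, 1, 0, 2, 1, 0, 1, 0, 2, 1, 0, 2, 1, 2, 0, 2, 1, 2, 1, 0, 2, 1, 0, 1, 2, 0, 1, 2, 1, 2, 0, 2, 1, 2, 0, 1, 2, 0,
    1, 0, 1, 2, 0, 1, 0, 2, 1, 2, 1, 0, 2, 1, 0],
  [0, 2, 1, 0, 2, 0, 1, 0, 2, 0, 2, 1, 0, 2, 0, 1, 2, 1, 2, 0, 2, 0, 1, 0, 1, 2, 0, 1, 0, 1, 0, 1, 2, 1, 0, 2, 0, 2, 1, 0, 1, 0,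
    1, 0, 1, 0, 2, 1, 2, 1, 2, 0, 2, 0, 1, 0, 1, 2, 1, 2, 0, 2, 1, 2, 1, 0, 2, 0, 2, 1, 0, 1, 2, 1, 0, 2, 1, 0, 1, 2, 1, 0, 2, 0,
    1, 0, 2, 0, 1, 2, 0, 1, 0, 1, 2, 0, 1, 2, 0, 2, 0, 1, 0, 1, 0, 1, 0, 2, 1, 0, 2, 1, 0, 2, 1, 0, 1, 0, 2, 1, 0, 1, 2, 1, 2, 1,
    2],
  [0, 1, 0, 2, 1, 2, 1, 0, 2, 1, 2, 1, 0, 1, 0, 1, 2, 1, 0, 2, 0, 2, 1, 0, 2, 1, 2, 0, 1, 0, 1, 0, 2, 1, 2, 0, 1, 2, 1, 2, 1, 0,
    1, 0, 1, 2, 1, 0, 1, 2, 1, 0, 1, 0, 1, 2, 1, 2, 1, 0, 2, 1, 2, 0, 1, 0, 1, 0, 2, 1, 0, 1, 0, 2, 1, 0, 2, 0, 2, 1, 0, 1, 2, 0,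
    2, 0, 1, 2, 0, 1, 0, 2, 0, 2, 0, 1, 2, 0, 1, 0, 2, 0, 2, 0, 1, 0, 2, 1, 0, 2, 1, 2, 1, 0, 1, 2, 0],
  [1, 0, 1, 2, 0, 2, 1, 0, 2, 1, 2, 1, 0, 1, 0, 2, 1, 2, 0, 2, 1, 2, 1, 0, 2, 0, 2, 1, 0, 2, 1, 2, 0, 2, 1, 0, 2, 1, 0, 1, 0, 2,
    0, 1, 2, 0, 2, 1, 0, 1, 2, 1, 2, 0, 1, 2, 0, 1, 0, 2, 0, 2, 0, 1, 0, 2, 1, 0, 2, 0, 1, 0, 2, 1, 2, 0, 2, 1, 2, 0, 1, 2, 1, 2,
    0, 1, 0, 1, 0, 2, 1, 2, 0, 1, 2, 0, 2, 0, 1],
  [0, 1, 2, 0, 1, 2, 0, 1, 0, 1, 0, 2, 1, 0, 2, 1, 0, 1, 0, 1, 2, 1, 2, 0, 2, 1, 0, 1, 2, 1, 0, 1, 2, 0, 2, 1, 0, 1, 0, 2, 1, 0,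
    2, 1, 0, 1, 2, 0, 1, 2, 0, 2, 0, 2, 1, 0, 1, 0, 1, 2, 0, 2, 1, 2, 0, 1, 2, 1, 2, 0, 1, 0, 1, 0, 2, 1, 2, 1, 0, 2, 1, 2, 0, 2,
    1, 2, 0, 1, 0, 1, 2, 0, 1, 2, 1, 0, 2, 0, 1, 2, 1, 2, 0, 2, 0, 2, 1, 2, 1, 0, 2, 0, 2, 1, 2, 1, 0, 2, 0, 1, 2, 1, 2, 0, 2, 0,
    2, 1],
  [2, 1, 0, 2, 1, 0, 2, 1, 2, 1, 0, 1, 2, 0, 1, 2, 1, 0, 2, 0, 1, 2, 1, 0, 1, 2, 0, 2, 1, 0, 1, 0, 1, 2, 0, 1, 0, 1, 2, 1, 0, 2,
    0, 2, 0, 1, 2, 1, 0, 1, 0, 2, 1, 0, 1, 0, 2, 1, 0, 2, 1, 2, 1, 2, 0, 1, 2, 0, 2, 1, 0, 2, 1, 2, 1, 0, 2, 0, 2, 1, 2, 0, 2, 1,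
    2, 0, 2, 0, 2, 0, 1, 2, 1, 2, 0, 2, 1, 0, 2, 1, 2, 1, 0, 1, 2, 0, 1, 0, 1, 2, 0, 2, 1, 0, 1, 0, 1, 2, 0, 2, 1, 2, 0, 1, 2, 0,
    2, 1, 0, 2, 0, 1, 2, 0, 1, 2, 1, 0, 2, 1, 2, 1, 0, 2, 0, 2, 0, 1, 2, 1, 0, 1, 2, 0, 2, 1, 0, 2, 1, 2, 1, 0]]

/-- the relations -/
def cert3 : Cert where
  pw := [[5, 5], [], [5, 5], [], [], []]
  cm := [[[], [4], [3], [5], [5, 5], []], [[], [], [4, 4, 5, 5], [5, 5], [5, 5], []], [[], [], [], [5, 5], [5], []], [[], [], [],
    [], [], []], [[], [], [], [], [], []], [[], [], [], [], [], []]]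
  dv := [([], [], []), ([], [], []), ([], [], []), ([0], [2], []), ([0], [1], []), ([0], [3], [])]

/-- the chain of stabilizers -/
def lv3 : List (ℕ × List (List ℕ)) := [(2583761, [[], [2], [0, 0]]),
  (1, [[], [1, 4], [1], [3, 4, 5], [1, 1, 3, 4], [0, 0, 2, 4], [1, 1], [4], [5, 5], [0, 2, 2, 3], [1, 4, 5, 5], [3, 4], [5], [4,
    4], [1, 4, 5], [3, 3, 4, 4], [1, 4, 4], [1, 3], [1, 1, 4], [1, 5, 5], [1, 1, 3, 3, 4], [1, 1, 3], [1, 1, 5, 5], [3, 4, 4], [0,
    2, 2], [1, 1, 4, 4], [0, 0, 2, 4, 5]]),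
  (1903316, [[], [0, 1, 1, 2, 2, 4, 4, 5, 5], [0, 0, 1, 2, 3]]),
  (3358281, [[3, 3, 5], [], [3, 5, 5]])]

/-- the action of the letters from 6 on -/
def RR3 : List (List (List ℕ)) := [[[0, 0, 2, 1, 1, 2], [0, 1, 0, 0, 2], [2, 0, 0, 2, 2], [0, 0, 0, 2], [0, 0, 0, 0, 2], [0, 0, 0,
    0, 0, 2]],
  [[1, 1, 0, 0, 0, 1], [0, 2, 0, 0, 0, 1], [0, 2, 1, 0, 0, 2], [0, 0, 0, 1, 1, 2], [0, 0, 0, 0, 2, 2], [0, 0, 0, 0, 0, 1]],
  [[2, 2, 2, 1, 1, 1], [2, 0, 1, 0, 2, 1], [2, 1, 2, 2, 2], [0, 0, 0, 0, 2], [0, 0, 0, 1, 0, 2], [0, 0, 0, 0, 0, 2]]]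

/-- the matrices of the letters -/
def MM3 : List (List ℕ) := [[2234269, 2858713, 1277944, 44272, 2711042, 4189671, 4026308, 1286114, 633855, 3472396, 305906,
    2375700, 2179374, 1903316, 1917361, 602787, 3918287, 1801901, 3265520, 640835, 4140773, 3741189],
  [86577, 3918287, 795949, 3757948, 2688870, 1608994, 622288, 3051851, 3449025, 3476685, 3080467, 2167966, 4010131, 2471975,
    2296493, 2161126, 1131771, 446305, 3694448, 1786374, 2664763, 1025520],
  [3305687, 2889384, 3711258, 4190865, 3519381, 424290, 1846999, 1932737, 2343098, 2873045, 2004886, 1173574, 2893179, 3381412,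
    3805541, 621902, 1410167, 2349928, 2852694, 2411961, 2706602, 3200161],
  [1808437, 714957, 952855, 1624930, 1132735, 3231218, 2934753, 1449699, 3761504, 2085298, 448698, 2048, 3971967, 1470359,
    3597334, 756505, 134212, 1787561, 482736, 1231364, 1784342, 3090751],
  [1173574, 527807, 3582279, 3718593, 48392, 3885901, 1286883, 2135066, 3157217, 3458600, 4181679, 3199715, 3404840, 4130771,
    1960789, 388986, 3122435, 3852834, 3602444, 1934585, 528092, 747649],
  [1808437, 1231694, 795949, 3517997, 154609, 2818387, 3224249, 3801348, 1350253, 2363622, 1861454, 1847039, 3718624, 2056789,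
    2971677, 4155339, 2586520, 3113455, 1259505, 3937056, 213967, 1846999],
  [3425859, 1109424, 3790638, 183607, 3588456, 3345368, 3332334, 457614, 2221319, 1045703, 17906, 167738, 568189, 3580042, 41109,
    740097, 106855, 3174974, 262144, 2698101, 1922541, 14161],
  [379446, 991821, 3410762, 8, 1164451, 2961125, 1780875, 1780811, 2515670, 3837546, 2387606, 1295859, 3841130, 2671858, 1190040,
    207915, 1354735, 2917102, 2828165, 2861537, 1911567, 2960143],
  [1119566, 738081, 589493, 1110870, 514156, 3113455, 3374090, 1706989, 119809, 4192, 1915027, 178281, 1906054, 2757689, 801729,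
    144752, 1105354, 2493953, 4085754, 3279076, 213967, 2751783]]

theorem m3 : L.chkM 3 3 RR3 (L.idM 3) [1, 2, 3, 2, 3, 2, 0, 3, 0, 0, 0, 3, 3, 0, 0, 0, 0, 3, 2, 3, 2, 0, 3, 0, 0, 0, 3, 3, 0, 0,
    0, 0, 2, 3, 2, 3, 2, 0, 3, 0, 0, 0, 3, 3, 0, 0, 0, 0, 3, 2, 3, 2, 0, 3, 0, 0, 0, 3, 3] 32 27 = true := by decide +kernel


/-- the action of a letter -/
noncomputable def fM (MM : List (List ℕ)) (a : ℕ) : ℕ → ℕ := linL (MM.getD a ID22)

/-- the letters -/
noncomputable def yW (LW : List (List ℕ)) (a : ℕ) : Spor.Co2 := wd (LW.getD a [])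

/-- the matrices are the ones of the words -/
noncomputable def okW (LW MM : List (List ℕ)) : Bool :=
  Nat.beq LW.length MM.length && (List.range LW.length).all fun a => wmF (LW.getD a []) ID22 fun L => L == MM.getD a ID22

/-- the codes of the first points -/
noncomputable def okP (c : ℕ) : Bool := (List.range 24).any fun i => Nat.beq (ent 22 TT i) c

theorem okP_spec (c : ℕ) (h : okP c = true) : ∃ y : Y, cd y = c := by
  obtain ⟨i, hi, h1⟩ := List.any_eq_true.1 h
  obtain ⟨y, hy⟩ := M.idx_surj i ((List.mem_range.1 hi).trans (show 24 < 2300 by norm_num))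
  exact ⟨y, (congrArg (ent 22 TT) hy).trans (Nat.eq_of_beq_eq_true h1)⟩

variable {LW MM : List (List ℕ)}

theorem rp_y (h : okW LW MM = true) (a : ℕ) : M.Rp (MM.getD a ID22) (yW LW a) := by
  simp only [okW, Bool.and_eq_true, List.all_eq_true, List.mem_range, wmF_eq, beq_iff_eq, Nat.beq_eq] at h
  have h1 := rp_wd (LW.getD a [])
  rw [← ID22_eq] at h1
  rcases lt_or_ge a LW.length with h2 | h2
  · rwa [h.2 a h2] at h1
  · rw [List.getD_eq_default _ _ (h.1 ▸ h2)]
    rwa [show wm (LW.getD a []) ID22 = ID22 by rw [List.getD_eq_default _ _ h2]; rfl] at h1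

theorem rp_ev (h : okW LW MM = true) : ∀ w : List ℕ, M.Rp (ID22.map (imw (fM MM) w)) (ev (yW LW) w)
  | [] => by
    rw [ev_nil, show imw (fM MM) [] = id from rfl, List.map_id, ID22_eq]
    exact Mdl.Rp.one M
  | a :: w => by
    have h1 := Mdl.Rp.mul M (rp_y h a) (rp_ev h w)
    rw [List.map_map] at h1
    rw [ev_cons, show imw (fM MM) (a :: w) = linL (MM.getD a ID22) ∘ imw (fM MM) w from funext (imw_cons _ a w)]
    exact h1

theorem eqv_ok (h : okW LW MM = true) (v w : List ℕ) (e : eqb (fM MM) ID22 v w = true) : ev (yW LW) v = ev (yW LW) w :=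
  eq_of_rp (rp_ev h v) (List.map_congr_left (fun b hb => Nat.eq_of_beq_eq_true (List.all_eq_true.1 e b hb)) ▸ rp_ev h w)

theorem ge_ok (h : okW LW MM = true) {n k : ℕ} {lv : List (ℕ × List (List ℕ))}
    (hc : (chn (imw (fM MM)) okP n lv [] && Nat.ble k (lv.map fun v => v.2.length).prod) = true) :
    k ≤ Nat.card (V (yW LW) n 0) :=
  card_ge (fun _ _ => cd_inj) okP_spec (fun u _ => imw_spec (rp_y h) u) hc

theorem w5 : okW LW5 MM5 = true := by decide +kernel
theorem c5 : _root_.Cfsg.Agent.MO.S.Pc.chk (eqb (fM MM5) ID22) 5 3 2 cert5 = true := by decide +kernel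
theorem s5 : (chn (imw (fM MM5)) okP 3 lv5 [] && Nat.ble (5 ^ 3) (lv5.map fun v => v.2.length).prod) = true := by
  decide +kernel
theorem n5 : nrms (eqb (fM MM5) ID22) 3 RR5 = true := by decide +kernel

theorem w3 : okW LW3 MM3 = true := by decide +kernel
theorem c3 : _root_.Cfsg.Agent.MO.S.Pc.chk (eqb (fM MM3) ID22) 3 6 3 cert3 = true := by decide +kernel
theorem s3 : (chn (imw (fM MM3)) okP 6 lv3 [] && Nat.ble (3 ^ 6) (lv3.map fun v => v.2.length).prod) = true := by
  decide +kernel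
theorem n3 : nrms (eqb (fM MM3) ID22) 6 RR3 = true := by decide +kernel

instance factFive : Fact (Nat.Prime 5) := ⟨by norm_num⟩

/-- the bound from `GL_m(p)` -/
theorem bd {p n m k r : ℕ} [Fact p.Prime] {c : Cert} (h : okW LW MM = true) (hk : _root_.Cfsg.Agent.MO.S.Pc.chk (eqb (fM MM) ID22) p n m c = true)
    (hx : expC n m c = true) (hc : p ^ n ≤ Nat.card (V (yW LW) n 0)) (ho : Up.okCent TAB.Co2.D p (p ^ n) = true)
    (hn : Nat.gcd (∏ i : Fin m, (p ^ m - p ^ (i : ℕ))) 42305421312000 ∣ p ^ r * k) (h0 : k ≠ 0) (Q : Sylow p Spor.Co2)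
    (hQ : (Q : Subgroup Spor.Co2) = V (yW LW) n 0) : Nat.card (normalizer (V (yW LW) n 0 : Set Spor.Co2)) ≤ p ^ n * k := by
  obtain ⟨T, h1, h2, -⟩ := TAB.Co2.str
  have hp := pc_of_chk (eqv_ok h) hk
  have h3 := Up.card_le_of_GL Q (Up.cent_pgroup h1 (Up.rat_of_str h2) ho _ (by rw [hQ, hp.card_zero hc]))
    (hQ ▸ hp.index hc) (hQ ▸ exp_of_chk (eqv_ok h) hk hx) (card_co2 ▸ hn) h0
  rwa [hQ, hp.card_zero hc] at h3

theorem loc5 : ∃ Q : Sylow 5 Spor.Co2, T.k0 5 (normalizer ((Q : Subgroup Spor.Co2) : Set Spor.Co2)) = 20 :=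
  k0_syl (eqv_ok w5) c5 (by decide +kernel) (ge_ok w5 s5) (o := 338443370496) card_co2 (by norm_num) n5
    (bd (r := 1) w5 c5 (by decide +kernel) (ge_ok w5 s5) (by decide +kernel) (by decide +kernel) (by norm_num)) m5

theorem loc3 : ∃ Q : Sylow 3 Spor.Co2, T.k0 3 (normalizer ((Q : Subgroup Spor.Co2) : Set Spor.Co2)) = 27 :=
  k0_syl (eqv_ok w3) c3 (by decide +kernel) (ge_ok w3 s3) (o := 58032128000) card_co2 (by norm_num) n3
    (bd (r := 3) w3 c3 (by decide +kernel) (ge_ok w3 s3) (by decide +kernel) (by decide +kernel) (by norm_num)) m3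

end Cfsg.Agent.MO.S.Co2
end

-- part: MO/S/Co2/Main
section
/-!
# MO, the row `Co2` (helper7)
-/

set_option autoImplicit false

namespace Cfsg.Agent.MO.S

open Cfsg Cfsg.Agent.MO.T

theorem co2_1_3 : SmC 3 1 Spor.Co2 :=
  smC_one_inn (inn_of_index S2070.result) fun _ => Co2.loc3.imp fun _ h =>
    h.trans ((k0_of_degList TAB.Co2.deg).trans (by decide +kernel)).symm

theorem co2_1_5 : SmC 5 1 Spor.Co2 :=
  have := Co2.factFive
  smC_one_inn (inn_of_index S2070.result) fun _ => Co2.loc5.imp fun _ h =>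
    h.trans ((k0_of_degList TAB.Co2.deg).trans (by decide +kernel)).symm

end Cfsg.Agent.MO.S
end

-- part: MO/S/HS/Base
section
/-!
# MO, the row `HS` : the model and the characters of the simple group (helper9)

`H0 = 2.HS.2`, `K = 2.HS`, `Q = HS` on 100 points.

* `cv_K`, `iso_K` : the double cover; `out2` : the outer automorphism group; `conjH` : the types are the classes of `H0`;
* `gk_1_3`, `gk_1_5`, `gf_1_3`, `gf_1_5` : the numbers for the simple group.
-/

set_option autoImplicit false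
set_option maxRecDepth 100000

namespace Cfsg.Agent.MO.S.HS

open Cfsg Subgroup Equiv Cfsg.Agent.MO.T Cfsg.Agent.TAB Cfsg.Agent.TAB.Eng Cfsg.Agent.TAB.Use
open Cfsg.Agent.HN Cfsg.Agent.HN.Pres Cfsg.Agent.HN.HS100 Cfsg.Agent.HN.H0Basic Cfsg.Agent.HN.CoverUnique
open Cfsg.Agent.HN.DoubleCover (φK φK_surj φK_coe)
open Cfsg.Agent.TAB.HS (T D A B tabQ isoQ)
open Cfsg.Agent.H344.S8.HS (cl cl_eq cl_spec cl_aut cov_Q inv_conj inv_of)

theorem center_eq : center K = φK.ker := DoubleCover.center_K card_H0 gxne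

theorem mem_center {z : K} : z ∈ center K ↔ (z : H0) = 1 ∨ (z : H0) = τ := by
  rw [center_eq, MonoidHom.mem_ker, ← φ_eq_one_iff, ← φK_coe, OneMemClass.coe_eq_one]

theorem nonsplit {X S : Type} [Group X] [Group S] {π : X →* S} (v : Cv 2 π) (L : Subgroup X) :
    ¬ (center X).IsComplement' L := fun h => by
  have h2 : L.index = 2 := h.index_eq_card.trans v.card
  have h1 : L = ⊤ := by
    rw [eq_top_iff, ← v.perf, commutator_def, commutator_le]
    intro a _ b _
    rw [commutatorElement_def, mul_assoc, ← mul_inv_rev, mul_mem_iff_of_index_two h2, inv_mem_iff,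
      mul_mem_iff_of_index_two h2, mul_mem_iff_of_index_two h2]
    exact iff_comm
  rw [h1, index_top] at h2
  omega

theorem cv_K : Cv 2 φK := by
  have hc : Nat.card (center K) = 2 := isCover_K.1
  have := AutHS.nonempty_Q.2
  refine ⟨φK_surj, center_eq.symm, hc, isCyclic_of_prime_card (p := 2) hc, ?_⟩
  have h1 : (_root_.commutator K).map φK = ⊤ := by
    rw [commutator_def, map_commutator, ← MonoidHom.range_eq_map, MonoidHom.range_eq_top.2 φK_surj, ← commutator_def]
    refine (Normal.eq_bot_or_eq_top inferInstance).resolve_left fun h => ?_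
    have h2 := DoubleCover.center_Q card_H0 gxne
    rw [(commutator_eq_bot_iff_center_eq_top _).1 h] at h2
    exact top_ne_bot h2
  have h2 : (_root_.commutator K).index ∣ 2 := by
    rw [← relIndex_top_right, ← comap_top φK, ← h1, comap_map_eq, relIndex_sup_left, ← hc, center_eq]
    exact relIndex_dvd_card _ _
  rcases (Nat.dvd_prime Nat.prime_two).1 h2 with h | h
  · exact index_eq_one.1 h
  · exact absurd h (K_no_index_two _)

theorem iso_K (X : Type) [Group X] [Finite X] (π : X →* Q) (v : Cv 2 π) : Nonempty (X ≃* K) :=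
  isoQ.elim fun e => equiv_K ⟨v.card, ⟨((QuotientGroup.quotientMulEquivOfEq v.ker.symm).trans
    (QuotientGroup.quotientKerEquivOfSurjective π v.surj)).trans e⟩, nonsplit v⟩

/-- the automorphism of `Q` which is induced by an element of `H0` -/
noncomputable def cq (h : H0) : MulAut Q := Q.normalizerMonoidHom ⟨φ h, mem_normalizer_fintype (by
  rintro _ ⟨k, hk, rfl⟩
  exact ⟨h * k * h⁻¹, K_normal.conj_mem k hk h, by rw [map_mul, map_mul, map_inv]⟩)⟩

theorem cq_coe (h : H0) (q : Q) : (cq h q : Perm (Fin 100)) = φ h * q * (φ h)⁻¹ := rfl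

theorem cq_mul (h : H0) (k : K) : cq (k * h) = MulAut.conj (φK k) * cq h := by
  ext q : 2
  simp only [cq_coe, MulAut.mul_apply, MulAut.conj_apply, coe_mul, coe_inv, φK_coe, map_mul, mul_inv_rev, mul_assoc]

theorem exists_cq (γ : MulAut Q) : ∃ h, γ = cq h := by
  obtain ⟨p, hp, h⟩ := AutHS.exists_perm γ
  obtain ⟨g, rfl⟩ : p ∈ φ.range := AutBound.range_eq ▸ hp
  exact ⟨g, MulEquiv.ext fun q => Subtype.ext (h q)⟩

theorem cases_K {a : H0} (ha : a ∉ K) (h : H0) : ∃ k : K, h = k ∨ h = k * a := by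
  by_cases hk : h ∈ K
  · exact ⟨⟨h, hk⟩, Or.inl rfl⟩
  · exact ⟨⟨h * a⁻¹, (mul_mem_iff_of_index_two K_index).2 (iff_of_false hk fun e => ha (inv_mem_iff.1 e))⟩,
      Or.inr (inv_mul_cancel_right h a).symm⟩

theorem out_cq {a : H0} (ha : a ∉ K) (γ : MulAut Q) : ∃ s, γ = MulAut.conj s ∨ γ = MulAut.conj s * cq a := by
  obtain ⟨h, rfl⟩ := exists_cq γ
  obtain ⟨k, rfl | rfl⟩ := cases_K ha h
  · exact ⟨φK k, Or.inl (MulEquiv.ext fun _ => rfl)⟩
  · exact ⟨φK k, Or.inr (cq_mul a k)⟩

theorem out2 : Out2 Q := ⟨cq gz, out_cq gz_not_mem⟩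

theorem ty_aut (γ : MulAut Q) (q : Q) : T.ty (γ q) = T.ty q := congrArg Fin.val (cl_aut γ q)

/-- the types are the classes of `H0` -/
theorem conjH {g h : Q} (e : T.ty g = T.ty h) : ∃ c, cq c g = h := by
  obtain ⟨α, h1, -⟩ := TAB.HS.hom g h e
  obtain ⟨c, rfl⟩ := exists_cq α
  exact ⟨c, h1⟩

/-! ### the simple group -/

theorem f0_Q (p : ℕ) {β : MulAut Q} (hβ : ¬ ∃ s, β = MulAut.conj s) :
    f0 p β = (List.range 24).countP fun j => (Sm2.mkRows A B).d j % p != 0 && decide (j < 18) := by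
  obtain ⟨χ, hE, hR⟩ := tabQ.2
  refine f0_enum hE fun j hj _ => ?_
  rw [decide_eq_true_eq]
  refine ⟨fun h => by_contra fun hn => ?_, fun h g => ?_⟩
  · have hc := Characters.Core.isIrr_isClassFunction (hE.irr j hj)
    have h1 : ∀ g g', T.ty g = T.ty g' → χ j g = χ j g' := fun g g' e => by
      obtain ⟨c, rfl⟩ := conjH e
      obtain ⟨s, rfl | rfl⟩ := out2.choose_spec β
      · exact absurd ⟨s, rfl⟩ hβ
      obtain ⟨t, h2 | h2⟩ := out2.choose_spec (cq c)
      · rw [h2, MulAut.conj_apply, hc]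
      · rw [h2, MulAut.mul_apply, MulAut.conj_apply, hc, ← h g, MulAut.mul_apply, MulAut.conj_apply, hc]
    have h2 : ∀ j < (Sm2.mkRows A B).n, ¬ j < 18 →
        j ∉ List.range 18 ++ [18, 20, 22] ∨ j ∉ List.range 18 ++ [19, 21, 23] := by decide +kernel
    exact (h2 j hj hn).elim (fun h3 => MK.S4.not_const hE hR (by decide +kernel) hj h3 h1)
      fun h3 => MK.S4.not_const hE hR (by decide +kernel) hj h3 h1
  · have h2 : ([(j, 1)], Sm2.rw' A B j) ∈ (Sm2.mkRows A B).rel :=
      List.mem_append_left _ (List.mem_map.2 ⟨j, List.mem_range.2 h, rfl⟩)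
    have h3 := hR _ h2 (β g)
    rw [ty_aut, ← hR _ h2 g] at h3
    simpa using h3

theorem gk_1_3 : GK 3 1 Spor.HS 18 := gk_one ((k0_of_degList TAB.HS.deg).trans (by decide))

theorem gk_1_5 : GK 5 1 Spor.HS 13 := gk_one ((k0_of_degList TAB.HS.deg).trans (by decide))

theorem gf_1_3 : GF 3 1 Spor.HS 12 :=
  isoQ.elim fun e => (gf_one fun _ h => (f0_Q 3 h).trans (by decide +kernel)).congr e.symm

theorem gf_1_5 : GF 5 1 Spor.HS 9 :=
  isoQ.elim fun e => (gf_one fun _ h => (f0_Q 5 h).trans (by decide +kernel)).congr e.symm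

theorem outC (m : ℕ) : OutC m Spor.HS := isoQ.elim fun e => (out2.outC m).congr e.symm

end Cfsg.Agent.MO.S.HS
end

-- part: MO/S/HS/Cls
section
/-!
# MO, the cover `2.HS` : the classes of `H0` in `K` (helper9)

* `y t` : the representatives, `s` : the sign, `Inv f` : `f` is odd and invariant under `H0`;
* `Inv.eq`, `Inv.zero`, `Inv.sq` : the values; `inv_sf` : the signed rows; `inner_ty` : scalar products.
-/

set_option autoImplicit false
set_option maxRecDepth 100000

namespace Cfsg.Agent.MO.S.HS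

open Cfsg Subgroup Equiv Finset Cfsg.Agent.TAB Cfsg.Agent.TAB.Eng Cfsg.Agent.MO.S.Cov2 Cfsg.Agent.Characters.Core
open Cfsg.Agent.HN Cfsg.Agent.HN.Pres Cfsg.Agent.HN.HS100 Cfsg.Agent.HN.H0Basic Cfsg.Agent.SporadicA.PermTab
open Cfsg.Agent.HN.P1408 (hw tr okw eqw ψ hw_append hw_cons ψ_hw_inv_apply map_hw letG)
open Cfsg.Agent.HN.DoubleCover (φK φK_surj φK_coe)
open Cfsg.Agent.TAB.HS (T D mass)
open Cfsg.Agent.H344.S8.HS (cl_eq cl_one inv_word pchk Iv)
open Cfsg.Agent.H922.Ore.Gr (Acts)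
open scoped ComplexConjugate

/-- the representatives -/
def yw : List (List ℕ) := [[], [0], [2, 2, 2], [2, 2], [0, 2, 0, 2, 0, 2, 2], [0, 2, 0, 2], [0, 2, 4, 3, 4], [0, 2, 2,
  0, 2, 2], [0, 2, 0, 2, 2, 0, 2, 2, 4, 2, 4], [2, 4, 2, 4], [0, 2, 0, 2, 0, 3], [2], [0, 2, 2, 4, 2, 4], [0, 2], [0,
  2, 4, 2, 4], [0, 2, 0, 3, 4, 3, 3, 4], [0, 2, 2], [0, 2, 2, 2, 4, 2, 4], [0, 2, 2, 2], [0, 2, 0, 3, 4, 2, 4], [0, 2,
  2, 4, 2, 4, 2]]

/-- the elements which conjugate `y` to `τ * y` -/
def zw : List (List ℕ) := [[], [0, 4], [], [], [0, 2, 0, 2, 1, 2, 1, 1, 4, 2], [0, 4, 2, 1, 2, 4], [0, 2, 1, 4, 3, 0],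
  [], [], [], [0, 2, 4, 3, 0], [], [], [3, 0, 2, 0, 2, 1, 2, 1, 2, 2, 0, 2, 0, 3, 1, 3, 1, 3, 0, 4, 3, 4, 2, 2, 1, 4,
  2, 4], [4, 1, 3, 0, 3, 0, 3, 3, 1, 2, 2, 0, 3, 1, 3, 3, 0, 3], [], [3, 4, 2, 0, 2, 4, 2], [], [3, 0, 3, 4, 2, 0, 2],
  [], []]

/-- the elements which conjugate the squares to the representatives -/
def qw : List (List ℕ) := [[], [], [], [0, 4, 3, 4, 0, 2, 0, 2, 1, 2, 1, 2, 2, 4, 3, 1], [2, 0, 3, 0, 2, 2, 1, 3, 1,
  2, 2, 4, 2, 0, 2], [2, 2, 2, 0, 2, 1, 2, 0, 4, 2, 1], [0, 2, 0, 2, 1, 2, 1, 2, 0, 3, 0, 3, 3, 1, 3, 3, 3, 4, 3, 3,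
  0, 3, 0], [0, 2, 0, 2, 1, 2, 2, 1, 2, 0, 2, 1, 3], [0, 2, 2, 0, 3, 3, 1, 2, 2, 2, 2, 2, 0, 3, 4, 3, 3], [0, 2, 0, 2,
  1, 3, 1, 3, 3, 3, 3, 0, 3, 1, 2, 2, 4, 3, 3, 0, 4, 3, 0], [0, 3, 3, 1, 2, 2, 0, 3, 1, 3, 3, 0, 2, 1, 2, 2, 0, 2, 1],
  [], [0, 2, 4, 2, 2, 1, 4, 2, 2, 2, 4], [], [], [2, 0, 3, 1, 2, 2, 0, 2, 2, 1, 2, 0, 3, 0, 3, 1, 2, 0, 3, 1, 2, 0],
  [], [3, 3, 1, 2, 0, 3, 3, 3, 1, 3, 3, 3, 0, 3, 1, 2, 0, 0, 4], [3, 0, 2, 2, 2, 1, 2, 0, 2, 2, 2, 1], [1, 2, 4, 2, 0,
  3, 0, 3, 1, 3, 1, 2, 0, 3, 3, 1, 2, 2, 0, 2, 1, 1, 4, 2], [4, 2, 4, 2, 0, 3, 0, 3, 1, 2, 2, 1, 2, 0, 2, 1, 4, 2, 2,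
  2]]

/-- the signs of the squares -/
def sgL : List ℤ := [1, -1, 1, 1, -1, 1, -1, -1, 1, 1, -1, 1, -1, 0, 0, 1, 1, 1, -1, -1, 1]

/-- the types with `y ~ τ * y` -/
def N0 : List ℕ := [1, 4, 5, 6, 10, 13, 14, 16, 18]

/-- the table of a letter -/
def tl (l : ℕ) : ℕ :=
  match l with
  | 0 => tX
  | 1 => tXi
  | 2 => tY
  | 3 => tYi
  | _ => tZ

/-- the tables of a word -/
def tb : List ℕ → List ℕ
  | [] => []
  | l :: a => tb a ++ [tl l]

theorem acts_hw : ∀ a, Acts (φ (hw a)) (tb a)
  | [] => by rw [P1408.hw_nil, map_one]; exact Acts.one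
  | l :: a => by
    rw [hw_cons, map_mul]
    refine Acts.mul ?_ (acts_hw a)
    rw [map_hw, φ_gx, φ_gy, φ_gz, P1408.ev_cons, P1408.ev_nil, mul_one]
    match l with
    | 0 => exact fun _ => rfl
    | 1 => exact fun _ => rfl
    | 2 => exact fun _ => rfl
    | 3 => exact fun _ => rfl
    | _ + 4 => exact fun _ => rfl

theorem chkY : ∀ t : Fin 21, okw (ntd yw [] t) = true ∧ par (ntd yw [] t) = false ∧
    pchk (tb (ntd yw [] t)) (tb (ntd yw [] t) ++ tb (ntd yw [] t)) (Iv t) = true := by decide +kernel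

theorem chkZ : ∀ t ∈ N0, eqw (ntd yw [] t ++ ntd zw [] t) (ntd zw [] t ++ ([0, 0] ++ ntd yw [] t)) = true := by
  decide +kernel

theorem chkQ : ∀ u < 21, D.pwf u 2 ≠ 20 ∧ (nth sgL u = 0 ∧ D.pwf u 2 ∈ N0 ∨
    nth sgL u = 1 ∧ eqw (ntd yw [] u ++ ntd yw [] u ++ ntd qw [] u) (ntd qw [] u ++ ntd yw [] (D.pwf u 2)) = true ∨
    nth sgL u = -1 ∧
      eqw (ntd yw [] u ++ ntd yw [] u ++ ntd qw [] u) (ntd qw [] u ++ ([0, 0] ++ ntd yw [] (D.pwf u 2))) = true) := by
  decide +kernel

theorem chkO : ∀ t < 21, t ∉ N0 → t ≠ 20 → ∃ n ∈ [1, 3, 5, 7, 11, 15], n % 2 = 1 ∧ (D.pwf t n = 0 ∨ D.pwf t n = 2) := by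
  decide +kernel

theorem chkF : ∀ t ∈ [0, 2], okw (ntd yw [] t) = true ∧ tr (ntd yw [] t) 0 = 0 ∧
    allB (fun p => !Nat.beq (tr ([0, 0] ++ ntd yw [] t) p) p) 1408 = true := by decide +kernel

/-- the representatives -/
noncomputable def y (t : ℕ) : K := ⟨hw (ntd yw [] t), by
  rcases ntd_mem yw [] t with h | h
  · rw [h]
    exact one_mem K
  · have h1 := (by decide +kernel : ∀ a ∈ yw, okw a = true ∧ par a = false) _ h
    exact mem_K_of_par h1.1 h1.2⟩

/-- the central involution -/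
def tK : K := ⟨τ, τ_mem_K⟩

/-- the type -/
noncomputable abbrev ty (x : K) : ℕ := T.ty (φK x)

theorem ty_lt (x : K) : ty x < 21 := T.lt _

theorem ty_y {t : ℕ} (ht : t < 21) : ty (y t) = t :=
  congrArg Fin.val (cl_eq (i := ⟨t, ht⟩) ((by exact inv_word (acts_hw _) ((acts_hw _).mul (acts_hw _)) (chkY ⟨t, ht⟩).2.2)))

theorem ty_pow (x : K) (n : ℕ) : ty (x ^ n) = D.pwf (ty x) n := by rw [ty, map_pow, T.pow]

theorem tK_mem : tK ∈ center K := mem_center.2 (Or.inr rfl)

theorem tK_ne : tK ≠ 1 := fun h => τ_ne_one (congrArg Subtype.val h)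

theorem tK_tK (x : K) : tK * (tK * x) = x := by
  rw [← mul_assoc, show tK * tK = 1 from Subtype.ext τ_mul_τ, one_mul]

theorem ty_t (x : K) : ty (tK * x) = ty x := by
  rw [ty, map_mul, show φK tK = 1 from Subtype.ext φ_τ, one_mul]

theorem ty_cj {x x' : K} (h : IsConj (x : H0) x') : ty x = ty x' := by
  obtain ⟨c, hc⟩ := isConj_iff.1 h
  rw [ty, ← ty_aut (cq c)]
  exact congrArg T.ty (Subtype.ext (by rw [cq_coe, φK_coe, φK_coe, ← hc, map_mul, map_mul, map_inv]))

theorem cj_t {a b : H0} (h : IsConj a b) : IsConj (τ * a) (τ * b) := by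
  obtain ⟨c, rfl⟩ := isConj_iff.1 h
  exact isConj_iff.2 ⟨c, by rw [← mul_assoc, τ_comm]; group⟩

theorem cj_w {a b c : List ℕ} (h : eqw (a ++ c) (c ++ b) = true) : IsConj (hw a) (hw b) := by
  have h1 := hw_eq h
  rw [hw_append, hw_append] at h1
  exact isConj_iff.2 ⟨(hw c)⁻¹, by rw [inv_inv, mul_assoc, h1, inv_mul_cancel_left]⟩

theorem hw_t (a : List ℕ) : hw ([0, 0] ++ a) = τ * hw a := by rw [hw_append, hw_τ]

theorem cov (x : K) : IsConj (x : H0) (y (ty x)) ∨ IsConj ((tK * x : K) : H0) (y (ty x)) := by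
  obtain ⟨c, hc⟩ := conjH (ty_y (ty_lt x)).symm
  have h1 : φ (c * x * c⁻¹) = φ (y (ty x)) := by
    rw [map_mul, map_mul, map_inv]
    exact congrArg Subtype.val hc
  refine (φ_eq_iff.1 h1).imp (fun h => isConj_iff.2 ⟨c, h⟩) fun h => ?_
  have h2 := cj_t (isConj_iff.2 ⟨c, h⟩)
  rwa [τ_comm, ← mul_assoc, τ_mul_τ, one_mul] at h2

theorem nc (x : K) (h1 : ty x ∉ N0) (h2 : ty x ≠ 20) : ¬ IsConj (x : H0) (τ * x) := fun h => by
  obtain ⟨n, -, hn, h3⟩ := chkO _ (ty_lt x) h1 h2
  have h4 : IsConj ((x ^ n : K) : H0) (τ * (x ^ n : K)) := by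
    have h4 := h.pow n
    rwa [(show Commute τ (x : H0) from (τ_comm x).symm).mul_pow, ← Nat.div_add_mod n 2, hn, pow_succ τ, pow_mul τ, τ_sq,
      one_pow, one_mul, ← hn, Nat.div_add_mod] at h4
  have h5 : IsConj ((y (ty (x ^ n)) : K) : H0) (τ * y (ty (x ^ n))) := by
    rcases cov (x ^ n) with h5 | h5
    · exact h5.symm.trans (h4.trans (cj_t h5))
    · exact h5.symm.trans (cj_t (h4.trans h5))
  obtain ⟨k1, k2, k3⟩ := chkF (ty (x ^ n)) (by
    rw [ty_pow]
    simpa using h3)
  obtain ⟨c, hc⟩ := isConj_iff.1 h5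
  have h6 := (allB_iff _ _).1 k3 (ψ c 0) (ψ c 0).2
  rw [← ψ_hw_inv_apply (okw_append (by decide) k1), hw_t, show τ * hw _ = _ from hc.symm] at h6
  have h7 : (ψ (y (ty (x ^ n))))⁻¹ 0 = 0 := Fin.ext ((ψ_hw_inv_apply k1 0).trans k2)
  rw [map_mul, map_mul, map_inv, mul_inv_rev, mul_inv_rev, inv_inv, Perm.mul_apply, Perm.mul_apply,
    show (ψ c)⁻¹ (ψ c 0) = 0 from Equiv.symm_apply_apply _ _, h7, Nat.beq_refl] at h6
  cases h6

open Classical in
/-- the sign -/
noncomputable def s (x : K) : ℂ := if IsConj (x : H0) (y (ty x)) then 1 else -1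

theorem s_sq (x : K) : s x * s x = 1 := by
  unfold s
  split_ifs <;> simp

theorem s_conj (x : K) : conj (s x) = s x := by
  unfold s
  split_ifs <;> simp only [_root_.map_one, _root_.map_neg]

theorem s_y {t : ℕ} (ht : t < 21) : s (y t) = 1 := by
  rw [s, ty_y ht, if_pos (IsConj.refl _)]

theorem sg_s : Sg s := ⟨fun x => ⟨2, two_ne_zero, (sq _).trans (s_sq x)⟩, s_y (t := 0) (by decide)⟩

theorem s_cj {x x' : K} (h : IsConj (x : H0) x') : s x = s x' := by
  classical
  rw [s, s, ty_cj h]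
  exact if_congr ⟨h.symm.trans, h.trans⟩ rfl rfl

theorem s_t {x : K} (h1 : ty x ∉ N0) (h2 : ty x ≠ 20) : s (tK * x) = -s x := by
  rw [s, s, ty_t]
  by_cases h : IsConj (x : H0) (y (ty x))
  · rw [if_pos h, if_neg fun e => nc x h1 h2 (h.trans e.symm)]
  · rw [if_neg h, if_pos ((cov x).resolve_left h), neg_neg]

/-- odd and invariant under `H0` -/
structure Inv (f : K → ℂ) : Prop where
  cj : ∀ x x' : K, IsConj (x : H0) x' → f x = f x'
  odd : ∀ x, f (tK * x) = -f x

variable {f : K → ℂ}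

theorem Inv.eq (h : Inv f) (x : K) : f x = s x * f (y (ty x)) := by
  rw [s]
  split_ifs with h1
  · rw [one_mul, h.cj _ _ h1]
  · rw [← h.cj _ _ ((cov x).resolve_left h1), h.odd, neg_mul_neg, one_mul]

theorem Inv.zero (h : Inv f) {t : ℕ} (ht : t ∈ N0) : f (y t) = 0 := by
  have h1 := cj_w (chkZ t ht)
  rw [hw_t] at h1
  exact self_eq_neg.1 ((h.cj (y t) (tK * y t) h1).trans (h.odd _))

theorem Inv.sq (h : Inv f) (x : K) : f (x ^ 2) = nth sgL (ty x) * f (y (D.pwf (ty x) 2)) := by
  have h1 : f (x ^ 2) = f (y (ty x) ^ 2) := by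
    rcases cov x with h1 | h1
    · exact h.cj _ _ (h1.pow 2)
    · rw [← h.cj ((tK * x) ^ 2) (y (ty x) ^ 2) (h1.pow 2), (show Commute tK x from (mem_center_iff.1 tK_mem x).symm).mul_pow,
        show tK ^ 2 = 1 from Subtype.ext τ_sq, one_mul]
  rw [h1]
  rcases (chkQ _ (ty_lt x)).2 with ⟨h2, h3⟩ | ⟨h2, h3⟩ | ⟨h2, h3⟩
  · rw [h.eq, ty_pow, ty_y (ty_lt x), h.zero h3, mul_zero, mul_zero]
  · have h4 := cj_w h3
    rw [hw_append, ← pow_two] at h4
    rw [h2, Int.cast_one, one_mul]
    exact h.cj _ _ h4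
  · have h4 := cj_w h3
    rw [hw_append, ← pow_two, hw_t] at h4
    rw [h2, Int.cast_neg, Int.cast_one, neg_one_mul, ← h.odd]
    exact h.cj _ _ h4

/-- the row vanishes outside the eleven types -/
def Sp (v : ℕ → ℤ) : Prop := (∀ t ∈ N0, v t = 0) ∧ v 20 = 0

theorem sf_cj (v : ℕ → ℤ) {x x' : K} (h : IsConj (x : H0) x') : sf T φK s v x = sf T φK s v x' := by
  rw [sf, sf, s_cj h, show T.ty _ = _ from ty_cj h]

theorem inv_sf {v : ℕ → ℤ} (h : Sp v) : Inv (sf T φK s v) := ⟨fun _ _ => sf_cj v, fun x => by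
  rw [sf, sf, show T.ty _ = _ from ty_t x]
  by_cases h1 : ty x ∈ N0
  · rw [h.1 _ h1]
    simp
  by_cases h2 : ty x = 20
  · rw [show T.ty (φK x) = 20 from h2, h2, h.2]
    simp
  · rw [s_t h1 h2, neg_mul]⟩

theorem sf_y (v : ℕ → ℤ) {t : ℕ} (ht : t < 21) : sf T φK s v (y t) = v t := by
  rw [sf, s_y ht, one_mul, show T.ty _ = _ from ty_y ht]

variable [Fintype K]

theorem inner_ty {g : K → ℂ} (F : ℕ → ℂ) (h : ∀ x, f x * conj (g x) = F (ty x)) :
    (D.N : ℂ) * classInner f g = ∑ t ∈ range 21, D.cnt t * F t := by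
  have : Finite Q := AutHS.finite_Q
  have := Fintype.ofFinite Q
  have h1 := H829.GowDesc.classInner_comp_surj φK φK_surj (fun q => F (T.ty q)) 1
  simp only [classInner_def, Function.comp, Pi.one_apply, map_one, mul_one] at h1
  rw [classInner_def, Finset.sum_congr rfl fun x _ => h x, h1, ← mass.1, ← mul_assoc,
    mul_inv_cancel₀ card_ne_zero_complex, one_mul, sum_mass mass]
  simp only [nsmul_eq_mul]
  rfl

theorem inner_inv (h : Inv f) (v : ℕ → ℤ) :
    (D.N : ℂ) * classInner (sf T φK s v) f = ∑ t ∈ range 21, D.cnt t * (v t * conj (f (y t))) :=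
  inner_ty _ fun x => by
    rw [h.eq x, sf, map_mul, s_conj]
    linear_combination (v (ty x) : ℂ) * conj (f (y (ty x))) * s_sq x

end Cfsg.Agent.MO.S.HS
end

-- part: MO/S/HS/Cov
section
/-!
# MO, the cover `2.HS` : the faithful characters (helper9)

The rows are the odd parts of the sums of virtual characters of `HS` over the square roots.

* `gen_seed` : the rows are generalized characters; `no_half` : the test with `δ₂`; `en` : the enumeration;
* `gk_2_3`, `gk_2_5`, `gf_2_3`, `gf_2_5` : the numbers.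
-/

set_option autoImplicit false
set_option maxRecDepth 100000

namespace Cfsg.Agent.MO.S.HS

open Cfsg Subgroup Finset Cfsg.Agent.TAB Cfsg.Agent.TAB.Eng Cfsg.Agent.MO.S.Cov2 Cfsg.Agent.Characters.Core
open Cfsg.Agent.Characters.Brauer Cfsg.Agent.H447.CTab
open Cfsg.Agent.HN Cfsg.Agent.HN.Pres Cfsg.Agent.HN.HS100 Cfsg.Agent.HN.H0Basic
open Cfsg.Agent.HN.DoubleCover (φK φK_surj)
open Cfsg.Agent.TAB.HS (T D A B mass isoQ)
open scoped ComplexConjugate

/-- the rows -/
def FL : List (List ℤ) := [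
[56, 0, 8, 2, 0, 0, 0, 4, 6, 1, 0, 2, 0, 0, 0, 2, 0, 1, 0, -2, 0],
[352, 0, 32, 10, 0, 0, 0, -12, 2, 2, 0, 2, -2, 0, 0, -2, 0, 0, 0, 0, 0],
[1232, 0, 48, 8, 0, 0, 0, 8, -18, 2, 0, 0, 0, 0, 0, 2, 0, 0, 0, 2, 0],
[1848, 0, 8, 12, 0, 0, 0, -8, -2, -2, 0, -4, 0, 0, 0, 2, 0, 0, 0, -2, 0],
[1000, 0, -40, 10, 0, 0, 0, 0, 0, 0, 0, 2, 1, 0, 0, 0, 0, -1, 0, 0, 0],
[2464, 0, -32, -2, 0, 0, 0, -4, 14, 4, 0, -2, 0, 0, 0, 2, 0, 0, 0, 2, 0],
[1792, 0, 0, -8, 0, 0, 0, -2, -8, 2, 0, 0, 0, 0, 0, 0, 0, -1, 0, -2, 0],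
[1848, 0, 8, -6, 0, 0, 0, -8, -2, -2, 0, 2, 0, 0, 0, 2, 0, 0, 0, 1, 0],
[3960, 0, 72, 0, 0, 0, 0, 0, 10, 0, 0, 0, 2, 0, 0, -2, 0, 0, 0, 0, 0],
[4608, 0, 0, 0, 0, 0, 0, 12, 8, -2, 0, 0, -2, 0, 0, 0, 0, -1, 0, 0, 0],
[5040, 0, -48, 0, 0, 0, 0, 0, -10, 0, 0, 0, 0, 0, 0, -2, 0, 2, 0, 0, 0]]

/-- the virtual characters of `HS` which give the rows -/
def EL : List (List (ℤ × ℕ)) := [[(1, 0), (-1, 5), (-1, 10), (-1, 11), (1, 12), (-1, 13), (-1, 15)], [(1, 1), (1, 4),
  (1, 5), (1, 7), (-1, 9), (1, 15), (1, 19)], [(1, 4), (-2, 8), (-1, 11), (1, 12), (-1, 13), (-1, 15), (-1, 17), (-1,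
  19)], [(1, 5), (-1, 6), (1, 7), (1, 8), (-1, 9), (1, 11), (-1, 13), (-1, 14), (-1, 15), (1, 16), (-1, 20)], [(1, 4),
  (1, 8), (-1, 12), (-1, 13), (-1, 16), (-1, 17)], [(-1, 6), (-1, 8), (1, 9), (1, 10), (1, 12), (-1, 15), (-1, 19)],
  [(1, 4), (1, 5), (-1, 8), (-1, 9), (-1, 11), (-1, 13), (1, 16)], [(-1, 5), (1, 8), (1, 9), (1, 11), (1, 12), (-1,
  13), (-1, 15), (-1, 16), (-1, 19)], [(1, 2), (1, 3), (1, 4), (1, 7), (-1, 10), (-1, 11), (1, 12), (-1, 14), (-1,
  15), (1, 16), (1, 19), (-1, 20)], [(1, 11), (1, 17)], [(1, 0), (1, 2), (1, 3), (1, 4), (1, 12), (-1, 13), (1, 16),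
  (-1, 20)]]

/-- the degrees -/
def bL : List ℤ := [56, 176, 616, 924, 1000, 1232, 1792, 1848, 1980, 2304, 2520]

/-- the norms -/
def nm (j : ℕ) : ℕ := [1, 2, 2, 2, 1, 2, 1, 1, 2, 2, 2].getD j 0

/-- the rows -/
noncomputable def F (j : ℕ) : ℕ → ℤ := nth (ntd FL [] j)

theorem rows_virt : ∀ r ∈ A ++ B, Virt T (nth r) := Sm1.virt_okC mass.1 TAB.HS.seeds_virt TAB.HS.ok_A

theorem N_ne : (D.N : ℂ) ≠ 0 := Nat.cast_ne_zero.2 (by decide)

theorem cj_aut (a : H0) (x : K) : IsConj (x : H0) (MulAut.conjNormal a x : K) := isConj_iff.2 ⟨a, rfl⟩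

theorem cj_of {f : K → ℂ} (hf : IsClassFunction K f) {a : H0} (ha : a ∉ K) (h : ∀ x, f (MulAut.conjNormal a x) = f x)
    (x x' : K) (e : IsConj (x : H0) x') : f x = f x' := by
  obtain ⟨c, hc⟩ := isConj_iff.1 e
  obtain ⟨k, rfl | rfl⟩ := cases_K ha c
  · rw [← hf x k]
    exact congrArg f (Subtype.ext hc)
  · rw [← h x, ← hf _ k]
    exact congrArg f (Subtype.ext (Eq.trans (by simp only [mul_assoc, _root_.Subgroup.coe_mul, _root_.MulAut.conjNormal_apply, _root_.InvMemClass.coe_inv, _root_.mul_inv_rev]) hc))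

theorem inner_avg [Fintype K] (α : MulAut K) {f : K → ℂ} (h : ∀ x, f (α x) = f x) (g : K → ℂ) :
    classInner f (fun x => g x + g (α x)) = 2 * classInner f g := by
  have h1 := Equiv.sum_comp α.toEquiv fun x => f x * conj (g x)
  simp only [MulEquiv.toEquiv_eq_coe, EquivLike.coe_coe, h] at h1
  simp only [classInner_def, map_add, mul_add, Finset.sum_add_distrib, h1, two_mul]

/-- **the odd part of the sum over the square roots** -/
theorem gen_seed {η v : ℕ → ℤ} (hη : Virt T η) (hv : Sp v) (h : ∀ t < 21,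
    ∑ u ∈ range 21, (if D.pwf u 2 = t then (D.cnt u : ℤ) * (η u * nth sgL u) else 0) = D.cnt t * v t) :
    IsGeneralizedCharacter K (sf T φK s v) := by
  have := Fintype.ofFinite K
  have := finite_irr (G := K)
  have := Fintype.ofFinite (IrrCharacter K)
  refine isGeneralizedCharacter_of_int (fun g c => (sf_cj v (isConj_iff.2 ⟨c, rfl⟩)).symm) fun χ hχ => ?_
  obtain ⟨c, hc, hc2, -⟩ := ODD.Red.exists_central hχ tK_mem
  rcases sq_eq_one_iff.1 (hc2 2 (Subtype.ext τ_sq)) with rfl | rfl
  · have h1 := MK.S7.inner_shift (sf T φK s v) hc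
    rw [funext (inv_sf hv).odd, map_one, one_mul, show (fun x => -sf T φK s v x) = (-1 : ℂ) • sf T φK s v from
      (neg_one_smul ℂ _).symm, classInner_smul_left, neg_one_mul, self_eq_neg] at h1
    exact ⟨0, h1.trans Int.cast_zero.symm⟩
  have hf := isIrr_isClassFunction hχ
  let α : MulAut K := MulAut.conjNormal gz
  have h2 : Inv fun x => χ x + χ (α x) := ⟨cj_of (fun g c => by rw [map_mul, map_mul, map_inv, hf, hf])
    gz_not_mem fun x => by
      rw [← MulAut.mul_apply, ← map_mul, ← pow_two, rels_H0.r7, map_one, MulAut.one_apply, add_comm], fun x => by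
      rw [map_mul, show α tK = tK from Subtype.ext (mul_inv_eq_iff_eq_mul.2 (τ_comm gz)), hc, hc]
      ring⟩
  refine ⟨_, Eq.trans ?_ (inner_sum_mu (H651.isGeneralizedCharacter_comp_hom φK hη)
    (H139.Cusp.isGeneralizedCharacter_pow (isGeneralizedCharacter_of_isCharacter (isIrr_isCharacter hχ)) 2))⟩
  refine mul_left_cancel₀ two_ne_zero (mul_left_cancel₀ N_ne ?_)
  rw [← inner_avg α fun x => (sf_cj v (cj_aut gz x)).symm,
    ← inner_avg α fun x => by rw [show T.ty _ = _ from (ty_cj (cj_aut gz x)).symm], inner_inv h2,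
    inner_ty (fun u => η u * nth sgL u * conj (χ (y (D.pwf u 2)) + χ (α (y (D.pwf u 2))))) fun x => by
      rw [← map_pow, h2.sq x, map_mul, map_intCast, mul_assoc]]
  have h3 : ∀ t ∈ range 21, (D.cnt t : ℂ) * (v t * conj (χ (y t) + χ (α (y t)))) = ∑ u ∈ range 21,
      if D.pwf u 2 = t then (D.cnt u : ℂ) * (η u * nth sgL u * conj (χ (y t) + χ (α (y t)))) else 0 := fun t ht => by
    have h4 := congrArg (Int.cast : ℤ → ℂ) (h t (mem_range.1 ht))
    push_cast at h4
    rw [← mul_assoc, ← h4, Finset.sum_mul]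
    simp only [ite_mul, zero_mul, mul_assoc]
  rw [Finset.sum_congr rfl h3, Finset.sum_comm]
  refine Finset.sum_congr rfl fun u hu => ?_
  rw [Finset.sum_ite_eq, if_pos (mem_range.2 ((by decide +kernel : ∀ u < 21, D.pwf u 2 < 21) u (mem_range.1 hu)))]

/-- the scalar product of `δ₂ (v / 2)` and `η` -/
noncomputable def nh (v η : ℕ → ℤ) : ℤ :=
  ∑ u ∈ range 21, (D.cnt u : ℤ) * (η u * (2 * nth sgL u * v (D.pwf u 2) - v u ^ 2))

theorem dvd_nh {χ : K → ℂ} (hχ : IsGeneralizedCharacter K χ) (hi : Inv χ) {v : ℕ → ℤ}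
    (hv : ∀ t < 21, t ≠ 20 → 2 * χ (y t) = v t) {η : ℕ → ℤ} (hη : Virt T η) (h0 : η 20 = 0) :
    ((8 * D.N : ℕ) : ℤ) ∣ nh v η := by
  have := Fintype.ofFinite K
  have := finite_irr (G := K)
  have := Fintype.ofFinite (IrrCharacter K)
  obtain ⟨z, h1⟩ : ∃ z : ℤ, _ = (z : ℂ) :=
    ⟨_, inner_sum_mu (gen_delta hχ Nat.prime_two) (H651.isGeneralizedCharacter_comp_hom φK hη)⟩
  have h2 := congrArg (fun z => (D.N : ℂ) * z) h1
  beta_reduce at h2
  rw [inner_ty (fun u => η u * (2 * nth sgL u * v (D.pwf u 2) - v u ^ 2) / 8) fun x => by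
    rw [map_intCast]
    by_cases h3 : ty x = 20
    · rw [show T.ty (φK x) = 20 from h3, h3, h0]
      simp
    · have h4 : D.pwf (ty x) 2 < 21 := ty_pow x 2 ▸ ty_lt _
      rw [hi.sq x, hi.eq x, ← hv _ (ty_lt x) h3, ← hv _ h4 (chkQ _ (ty_lt x)).1]
      push_cast
      linear_combination (-(η (ty x) : ℂ) * χ (y (ty x)) ^ 2 / 2) * s_sq x] at h2
  refine ⟨z, Int.cast_injective (α := ℂ) ?_⟩
  rw [Int.cast_mul, Int.cast_natCast, Nat.cast_mul, mul_assoc, ← h2, nh, Finset.mul_sum]
  push_cast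
  exact Finset.sum_congr rfl fun u _ => by ring

/-- the test -/
abbrev Nh (v : ℕ → ℤ) : Prop := ¬ ((8 * D.N : ℕ) : ℤ) ∣ nh v (fun t => nth (ntd (A ++ B) [] 1) t + 1) ∨
  ¬ ((8 * D.N : ℕ) : ℤ) ∣ nh v (nth (ntd (A ++ B) [] 4))

theorem no_half {χ : K → ℂ} (hχ : IsIrrCharacter K χ) (hi : Inv χ) {v : ℕ → ℤ}
    (hv : ∀ t < 21, t ≠ 20 → 2 * χ (y t) = v t) : ¬ Nh v := fun h =>
  have hc := isGeneralizedCharacter_of_isCharacter (isIrr_isCharacter hχ)
  h.elim (fun h => h (dvd_nh hc hi hv ((Virt.ntd rows_virt 1).add (Virt.const 1)) (by decide +kernel)))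
    fun h => h (dvd_nh hc hi hv (Virt.ntd rows_virt 4) (by decide +kernel))

theorem sp_F : ∀ j < 11, Sp (F j) := by
  unfold Sp
  decide +kernel

private noncomputable def _root_.Cfsg.Agent.LsF.fb71cd8_24 : {f // @Cfsg.Agent.TAB.Eng.look = f} := ⟨_, by first | (delta Cfsg.Agent.TAB.Eng.look List.brecOn List.brecOn.go Cfsg.Agent.TAB.Eng.look._f; rewrite [Cfsg.Agent.LsF.instDecEq_eq, Cfsg.Agent.LsF.ite_eq]; (try delta Cfsg.Agent.TAB.Eng.look.match_1); (try delta List.casesOn); first | dsimp -zeta only | exact rfl) | exact rfl⟩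
private noncomputable def _root_.Cfsg.Agent.LsF.fb71cd8_25 : {f // @Cfsg.Agent.TAB.Eng.Dat.pw = f} := ⟨_, by first | (delta Cfsg.Agent.TAB.Eng.Dat.pw; rewrite [Cfsg.Agent.LsF.getD_eq]; exact rfl) | exact rfl⟩
private noncomputable def _root_.Cfsg.Agent.LsF.fb71cd8_26 : {f // @Cfsg.Agent.TAB.Eng.Dat.ord = f} := ⟨_, by first | (delta Cfsg.Agent.TAB.Eng.Dat.ord; rewrite [Cfsg.Agent.LsF.getD_eq]; exact rfl) | exact rfl⟩
private noncomputable def _root_.Cfsg.Agent.LsF.fb71cd8_27 : {f // @Cfsg.Agent.TAB.Eng.Dat.pwf = f} := ⟨_, by first | (delta Cfsg.Agent.TAB.Eng.Dat.pwf; rewrite [Cfsg.Agent.LsF.fb71cd8_24.2, Cfsg.Agent.LsF.fb71cd8_25.2, Cfsg.Agent.LsF.fb71cd8_26.2]; exact rfl) | exact rfl⟩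
private noncomputable def _root_.Cfsg.Agent.LsF.fb71cd8_28 : {f // @Cfsg.Agent.TAB.Eng.Dat.cnt = f} := ⟨_, by first | (delta Cfsg.Agent.TAB.Eng.Dat.cnt; rewrite [Cfsg.Agent.LsF.getD_eq]; exact rfl) | exact rfl⟩
private noncomputable def _root_.Cfsg.Agent.LsF.fb71cd8_29 : {f // @Cfsg.Agent.TAB.Eng.addL = f} := ⟨_, by first | (delta Cfsg.Agent.TAB.Eng.addL; rewrite [Cfsg.Agent.LsF.iadd_eq]; exact rfl) | exact rfl⟩
private noncomputable def _root_.Cfsg.Agent.LsF.fb71cd8_30 : {f // @Cfsg.Agent.TAB.Eng.comb = f} := ⟨_, by first | (delta Cfsg.Agent.TAB.Eng.comb; rewrite [Cfsg.Agent.LsF.fb71cd8_29.2, Cfsg.Agent.LsF.map_eq, Cfsg.Agent.LsF.imul_eq]; exact rfl) | exact rfl⟩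
theorem gen_F {j : ℕ} (hj : j < 11) : IsGeneralizedCharacter K (sf T φK s (F j)) :=
  gen_seed (Virt.comb rows_virt (ntd EL [] j)) (sp_F j hj) ((by (refine of_decide_eq_true ?_; (try (rewrite [Cfsg.Agent.LsF.fb71cd8_27.2, Cfsg.Agent.LsF.fb71cd8_28.2, Cfsg.Agent.LsF.fb71cd8_30.2, Cfsg.Agent.LsF.imul_pat, Cfsg.Agent.LsF.icast_pat, Cfsg.Agent.LsF.lappend_pat, Cfsg.Agent.LsF.fsum_eq, Cfsg.Agent.LsF.frange_eq, Cfsg.Agent.LsF.iACM_eq, Cfsg.Agent.LsF.instDecEq_eq, Cfsg.Agent.LsF.instIDecEq_eq, Cfsg.Agent.LsF.dBallLT_eq, Cfsg.Agent.LsF.ite_eq, Cfsg.Agent.LsF.decide_eq])); decide +kernel) : ∀ j < 11, ∀ t < 21,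
    ∑ u ∈ range 21, (if D.pwf u 2 = t then (D.cnt u : ℤ) * (nth (comb (A ++ B) (ntd EL [] j)) u * nth sgL u) else 0) =
      D.cnt t * F j t) j hj)

theorem chkG : ∀ i < 11, ∀ j < 11, ip D (ntd FL [] i) (ntd FL [] j) = D.N * gam nm (fun _ => 0) i j := by
  decide +kernel

theorem gram [Fintype K] {i j : ℕ} (hi : i < 11) (hj : j < 11) :
    classInner (sf T φK s (F i)) (sf T φK s (F j)) = (gam nm (fun _ => 0) i j : ℤ) := by
  have : Finite Q := AutHS.finite_Q
  have := Fintype.ofFinite Q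
  rw [inner_sf φK_surj sg_s]
  exact inner_of_ip mass rfl (chkG i hi j hj)

private noncomputable def _root_.Cfsg.Agent.LsF.fb71cd8_31 : {f // @Cfsg.Agent.MO.S.HS.nm = f} := ⟨_, by first | (delta Cfsg.Agent.MO.S.HS.nm; rewrite [Cfsg.Agent.LsF.getD_eq]; exact rfl) | exact rfl⟩
private noncomputable def _root_.Cfsg.Agent.LsF.fb71cd8_32 : {f // @Cfsg.Agent.MO.S.HS.nh = f} := ⟨_, by first | (delta Cfsg.Agent.MO.S.HS.nh; rewrite [Cfsg.Agent.LsF.fb71cd8_28.2, Cfsg.Agent.LsF.fb71cd8_27.2, Cfsg.Agent.LsF.imul_pat, Cfsg.Agent.LsF.isub_pat, Cfsg.Agent.LsF.icast_pat, Cfsg.Agent.LsF.fsum_eq, Cfsg.Agent.LsF.frange_eq, Cfsg.Agent.LsF.iACM_eq]; exact rfl) | exact rfl⟩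
set_option synthInstance.maxSize 2000 in
theorem chkS : ∀ j < 11, ∀ i < j, nm j = 2 → nm i = 2 → ∀ a ∈ [(1 : ℤ), -1], ∀ c ∈ [(1 : ℤ), -1],
    Nh fun t => c * (F j t + a * F i t) := by (refine of_decide_eq_true ?_; (try (delta Cfsg.Agent.MO.S.HS.Nh; rewrite [Cfsg.Agent.LsF.fb71cd8_31.2, Cfsg.Agent.LsF.fb71cd8_32.2, Cfsg.Agent.LsF.nmul_pat, Cfsg.Agent.LsF.iadd_pat, Cfsg.Agent.LsF.imul_pat, Cfsg.Agent.LsF.ineg_pat, Cfsg.Agent.LsF.icast_pat, Cfsg.Agent.LsF.lappend_pat, Cfsg.Agent.LsF.instDecEq_eq, Cfsg.Agent.LsF.dOr_eq, Cfsg.Agent.LsF.dNot_eq, Cfsg.Agent.LsF.dBAll_eq, Cfsg.Agent.LsF.dBallLT_eq, Cfsg.Agent.LsF.dAllP_eq, Cfsg.Agent.LsF.idDvd_eq, Cfsg.Agent.LsF.decide_eq])); decide +kernel)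

variable {l : K → ℂ}

/-- **the enumeration** -/
theorem en [Fintype K] (hl : Fl K l) :
    ∃ ix, En (center K) l 11 0 nm (fun _ => 0) (nth bL) (fun j => sf T φK s (F j)) ix := by
  obtain ⟨μ, -, hμ⟩ := id hl
  refine enum_cov le_rfl μ hμ ⟨fun _ _ => le_rfl, fun _ _ h => absurd rfl h, fun _ h => absurd h (Nat.not_lt_zero _),
    fun _ h => absurd h (Nat.not_lt_zero _)⟩ (by decide) _ (fun _ => gen_F)
    (fun j hj => lo_two cv_K.card hl tK_mem tK_ne (inv_sf (sp_F j hj)).odd) (fun _ hi _ hj => gram hi hj)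
    (fun j => F j 0) (fun j _ => sf_y (t := 0) _ (by decide)) _ (by decide +kernel) ?_
    fun j hj i hi _ _ h1 h2 χ a c ha hc h3 => ?_
  · rw [cv_K.card, DoubleCover.card_K card_H0]
    decide +kernel
  have h4 : (c : ℂ) * c = 1 := by rcases hc with rfl | rfl <;> simp
  have h5 : ∀ x, 2 * (χ : K → ℂ) x = c * (sf T φK s (F j) x + a * sf T φK s (F i) x) := fun x => by
    linear_combination (-c) * h3 x - 2 * (χ : K → ℂ) x * h4
  have k1 := inv_sf (sp_F j hj)
  have k2 := inv_sf (sp_F i (hi.trans hj))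
  refine no_half χ.2 ⟨fun x x' e => mul_left_cancel₀ two_ne_zero ?_, fun x => mul_left_cancel₀ two_ne_zero ?_⟩
    (fun t ht _ => ?_) (chkS j hj i hi h1 h2 a (by simpa using ha) c (by simpa using hc))
  · rw [h5, h5, k1.cj x x' e, k2.cj x x' e]
  · rw [mul_neg, h5, h5, k1.odd, k2.odd]
    ring
  · rw [h5, sf_y _ ht, sf_y _ ht]
    push_cast
    rfl

theorem chkC : ∀ t < 21, t ∉ N0 → t ≠ 20 → ∀ u < 21,
    D.cnt u * ∑ i ∈ range 11, (3 - nm i : ℤ) * F i t * F i u = if u = t then 2 * (D.N : ℤ) else 0 := by (refine of_decide_eq_true ?_; (try (rewrite [Cfsg.Agent.LsF.dMemE_pat, Cfsg.Agent.LsF.fb71cd8_28.2, Cfsg.Agent.LsF.fb71cd8_31.2, Cfsg.Agent.LsF.imul_pat, Cfsg.Agent.LsF.isub_pat, Cfsg.Agent.LsF.icast_pat, Cfsg.Agent.LsF.fsum_eq, Cfsg.Agent.LsF.frange_eq, Cfsg.Agent.LsF.iACM_eq, Cfsg.Agent.LsF.instDecEq_eq, Cfsg.Agent.LsF.instIDecEq_eq, Cfsg.Agent.LsF.dNot_eq, Cfsg.Agent.LsF.dBallLT_eq, Cfsg.Agent.LsF.dAllP_eq, Cfsg.Agent.LsF.ite_eq, Cfsg.Agent.LsF.decide_eq])); decide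 +kernel)

theorem chkM : ∀ j < 11, nm j ≠ 1 → nm j = 2 ∧ (nth bL j % 15 = 0 ∨ Nh fun t => (nth bL j).sign * F j t) := by
  decide +kernel

theorem fA_K {p : ℕ} (hp : p ∣ 15) (α : MulAut K) (hα : ¬ ∃ x, α = MulAut.conj x) (hl : Fl K l) :
    fA p l α = ∑ j ∈ range 11, if ¬ p ∣ (sdeg 11 (fun _ => 0) (nth bL) j).natAbs ∧ nm j = 1 then
      mlt 11 nm (fun _ => 0) j else 0 := by
  have := Fintype.ofFinite K
  obtain ⟨ix, h⟩ := en hl
  obtain ⟨a, ha⟩ := CoverUnique.exists_conj α
  obtain rfl : α = MulAut.conjNormal a := MulEquiv.ext fun x => Subtype.ext (ha x)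
  have haK : a ∉ K := fun e => hα ⟨⟨a, e⟩, MulEquiv.ext fun _ => rfl⟩
  refine h.fA p _ (fun j => nm j = 1) fun χ hd => ?_
  have hj : ix χ < 11 := h.lt χ
  refine ⟨fun hf => by_contra fun hn => ?_, fun h1 x => ?_⟩
  · obtain ⟨h1, h2⟩ := chkM _ hj hn
    rw [sdeg, if_pos hj] at hd
    have hi : Inv (χ.1 : K → ℂ) := ⟨cj_of (isIrr_isClassFunction χ.1.2) haK hf, fun x => by
      obtain ⟨c, hc, -⟩ := ODD.Red.exists_central χ.1.2 tK_mem
      have h3 := lo_two cv_K.card hl tK_mem tK_ne (inv_sf (sp_F 0 (by decide))).odd tK tK_mem (y 0)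
      rw [(inv_sf (sp_F 0 (by decide))).odd, sf_y _ (by decide), show F 0 0 = 56 from rfl] at h3
      have h4 := (hc 1).symm.trans ((congrArg _ (mul_one tK)).trans (χ.2 tK tK_mem))
      rw [hc, mul_right_cancel₀ (isIrr_apply_one_ne_zero χ.1.2) h4]
      push_cast at h3
      linear_combination (-(χ.1 : K → ℂ) x / 56) * h3⟩
    refine no_half χ.1.2 hi (fun t ht h3 => ?_) (h2.resolve_left fun e => hd
      (hp.trans (Int.natCast_dvd.1 (Int.dvd_of_emod_eq_zero e))))
    by_cases h4 : t ∈ N0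
    · rw [hi.zero h4, (sp_F _ hj).1 t h4]
      simp
    have h5 := inner_inv hi fun u => ∑ i ∈ range 11, (3 - nm i : ℤ) * F i t * F i u
    rw [show sf T φK s (fun u => ∑ i ∈ range 11, (3 - nm i : ℤ) * F i t * F i u) =
        ∑ i ∈ range 11, (((3 - nm i : ℤ) * F i t : ℤ) : ℂ) • sf T φK s (F i) from funext fun x => by
          simp only [sf, Finset.sum_apply, Pi.smul_apply, smul_eq_mul, Int.cast_sum, Finset.mul_sum, Int.cast_mul]
          exact Finset.sum_congr rfl fun i _ => by ring, classInner_sum_left,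
      Finset.sum_congr rfl fun i hi => by rw [classInner_smul_left, h.inn χ i (mem_range.1 hi), sig, if_pos hj],
      Finset.sum_congr (s₁ := range 21) rfl fun u hu => by
        rw [← mul_assoc, ← Int.cast_natCast, ← Int.cast_mul, chkC t ht h4 h3 u (mem_range.1 hu)]] at h5
    simp only [apply_ite ((↑) : ℤ → ℂ), Int.cast_zero, mul_ite, ite_mul, mul_zero, zero_mul, Finset.sum_ite_eq',
      mem_range, hj, ht, if_true, sdeg, h1] at h5
    refine (starRingEnd ℂ).injective (mul_left_cancel₀ N_ne ?_)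
    rw [map_intCast, map_mul, map_ofNat]
    push_cast at h5 ⊢
    linear_combination -h5
  · have h2 := h.eq_row χ hj (gen_F hj) (by rw [gram hj hj, gam, if_pos rfl, h1]; simp)
    have h3 : ((nth bL (ix χ)).sign : ℂ) ≠ 0 :=
      Int.cast_ne_zero.2 ((by decide +kernel : ∀ j < 11, (nth bL j).sign ≠ 0) _ hj)
    refine mul_left_cancel₀ h3 ?_
    rw [← h2, ← h2, sf_cj _ (cj_aut a x)]

theorem kk_K (p : ℕ) (hl : Fl K l) : kk p ⊤ (center K) l = ∑ j ∈ range 11,
    if ¬ p ∣ (sdeg 11 (fun _ => 0) (nth bL) j).natAbs then mlt 11 nm (fun _ => 0) j else 0 :=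
  have := Fintype.ofFinite K
  (en hl).elim fun _ h => h.kk p

theorem gk_2_3 : GK 3 2 Spor.HS 9 :=
  isoQ.elim fun e => (gk_of_iso iso_K fun _ h => (kk_K 3 h).trans (by decide +kernel)).congr e.symm

theorem gk_2_5 : GK 5 2 Spor.HS 13 :=
  isoQ.elim fun e => (gk_of_iso iso_K fun _ h => (kk_K 5 h).trans (by decide +kernel)).congr e.symm

theorem gf_2_3 : GF 3 2 Spor.HS 3 := isoQ.elim fun e =>
  (gf_of_iso iso_K fun α _ h1 _ h => (fA_K (by decide) α h1 h).trans (by decide +kernel)).congr e.symm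

theorem gf_2_5 : GF 5 2 Spor.HS 3 := isoQ.elim fun e =>
  (gf_of_iso iso_K fun α _ h1 _ h => (fA_K (by decide) α h1 h).trans (by decide +kernel)).congr e.symm

end Cfsg.Agent.MO.S.HS
end

-- part: MO/S/HS/Main
section
/-!
# MO, the rows `HS` and `2.HS` for `p = 3, 5` (helper9, helper44)
-/

set_option autoImplicit false

namespace Cfsg.Agent.MO.S

open Cfsg Cfsg.Agent.MO.T Cfsg.Agent.MO.S.HS

theorem hs_1_3 : SmC 3 1 Spor.HS := smC_of_counts (outC 1) gk_1_3 lk_1_3 gf_1_3 lf_1_3

theorem hs_2_3 : SmC 3 2 Spor.HS := smC_of_counts (outC 2) gk_2_3 lk_2_3 gf_2_3 lf_2_3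

theorem hs_1_5 : SmC 5 1 Spor.HS :=
  haveI : Fact (Nat.Prime 5) := ⟨by norm_num⟩
  smC_of_counts (outC 1) gk_1_5 lk_1_5 gf_1_5 lf_1_5

theorem hs_2_5 : SmC 5 2 Spor.HS :=
  haveI : Fact (Nat.Prime 5) := ⟨by norm_num⟩
  smC_of_counts (outC 2) gk_2_5 lk_2_5 gf_2_5 lf_2_5

end Cfsg.Agent.MO.S
end

-- part: MO/S/F6/Dat
section
/-!
# `6.Fi22` : the lattice of the known signed rows, data (helper13, generated by `tools/P3/h13/gen.py`)
-/

set_option autoImplicit false
set_option maxRecDepth 100000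
set_option Elab.async false

namespace Cfsg.Agent.MO.S.F6

open Cfsg.Agent.TAB.Eng Cfsg.Agent.TAB.Cov Cfsg.Agent.TAB.F22 Cfsg.Agent.MO.S.Cov2 Cfsg.Agent.MO.S.F22T
open Cfsg.Agent.TAB.Glue (frcM)

/-- the action of the outer automorphism on the lifts of the representatives -/
def ep : List ℤ :=
  [1, 1, 1, -1, 1, 1, 1, 1, 1, 1, 1, -1, 1, 1, 1, -1, -1, 1, 1, -1, 1, 1, 1, -1, -1, 1, -1, 1, 1, 1, 1, 1, 1, 1, -1,
  1, 1, -1, 1, 1, 1, 1, 1, 1, -1, 1, 1, -1, 1, 1, -1, 1, -1, -1, 1, -1, 1, 1, -1]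

/-- the levels with their coefficients -/
noncomputable def lc : List (Lev × List ℤ) := [
  (⟨Q5.unp 5308417 2654208 59
    2964195556504795129601207759508706691048506085191125215889157213841273425803414607268656591104983828770217061988060567205911985227616922408128204453192191645372504141650319116095678746622496888845665604327464004508514564243270194009330694449505113326307469892418125517526413045599160302978583375120779295981512740978782834612541543981462684067854466276353232123568152264194125017612169901968854408, [], 1, 258247006617600⟩, Q5.unp 5 2 117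
    3009265538105056020399913422910358094472266871078503184522535186260938772583395312),
  (⟨Q5.unp 6275233 3137616 59
    57429032438129576215642271297204142489431361259692456065160007014856397353507616045087874909535885829392290067689189110999317984638012544224826502237858082644027366347299339779322976130860432095458741223669635555189978480867931533679249355572763334375479037841420382768447533451247612276185186474194995597709576782189437132337300427889113176425519679628599506521932569506044555113144875137527621877969, [1], 4, 3873705099264000⟩, Q5.unp 3 1 117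
    33247535989633639328473475685348194737530254305865693240),
  (⟨Q5.unp 442369 221184 59
    631344543429046216942369106901105442257502984518545765455784086279859547814121960212693366740246197523699472947890509438923019173939876385007107718399651055981391002626845756134079488519512353634399246779395286012193369442864787832660968755948397999561863342206762539293211900893905660513939644727453841979163241188145585729205517202, [-4, -1], 15, 54231871389696000⟩,
  Q5.unp 3 1 117
    33277968516933915245516558962343204236948687360082384536),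
  (⟨Q5.unp 6275233 3137616 59
    57429032438129576215642271000924328740573229818203403814941321786559056049503352324568189563872880800475586570672819546615237350774971092633041417709799385501687413447293621683718589752768908780854944350284465865708778695277344916364883258720541980843156152369933378756181474076010020866357317358836140614628344622571711684049013697212648310896638488837994939771704438008350345448256447321250380804313, [-2, 1, 2], 7,
  10846374277939200⟩, Q5.unp 3 1 117
    33277968517012139767427754129143898032960682522563600914),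
  (⟨Q5.unp 5971969 2985984 59
    3089620513782693583830118735726096286327055854062517797553384500259493207020947384197604734036782229778558930254305732383801377832289756291787296823164653246245095732305000452131461276971396159049793369109141036086475158515611270970988024098920624932999766589180528273889756421965701156388654263708642179955784404019458337452097589242047499306269164856489381258738604119085590151546138051482664465145, Q5.unp 9 4 4
    4014, 8,
  11879362304409600⟩, Q5.unp 3 1 117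
    33277968497845748541752046180471085505358605553358582222),
  (⟨Q5.unp 5971969 2985984 59
    3089620513782693583830118735726096286327055854062517797553384500259493207020947384197603728409491864372869684236628205525565275545311495561475925898643840008096525366467259158844161925859264528577033550234717162174291021984919102291831291195070229144991392081503834667142641725957402477533021455870013729531086997486654408997497546550877882733708311357953122419248189980486589087388892062182668079849, Q5.unp 47 23 5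
    87769137, 46,
  392018956045516800⟩, Q5.unp 3 1 117
    33277968516933807098722213427789621426228767616183091204),
  (⟨Q5.unp 51 25 59
    22429731512701955641170704692632168333159232113266596108838480665417365216019781570571437238274630495, Q5.unp 119 59 6
    79454737150, 132,
  3869056653144883200⟩, Q5.unp 3 1 117
    33277968517091016421879306416365367396751148210632668409),
  (⟨Q5.unp 5388769 2694384 59
    7192079254891255225632129926162491437973475200689066068441074501933433927601075318161527251294257439647602645041658267675860721994326963320531855911928502046269128065119997005066390329210840814742495471273985843278583623605797600745882404908810326175678328473860134550054887211091555568922257193374619566407358541320172399717540357811737832739286765054988906553688317095969513777107117465755788616, Q5.unp 4925 2462 7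
    2660584814599814174118430, 5448, 6379370956189886054400⟩, Q5.unp 5 2 117
    3009262456617144996783580695305304647860517713420206632690683474379681625796214187),
  (⟨Q5.unp 12247201 6123600 59
    7818868139999191493973366184341878549674907779646291886723275102151406013675030756862662673237739165054219274432976787664041872915288748974297639655189672921351428259445955336824757890576880973467033166665890915728861825847218602555215321245385731097773966367474867921031029808049419869766424563368331509813084986081049320328284213173939358150677107782633019570722509486615445206363267455671802790084079117448463078522, Q5.unp 19629 9814 8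
    10850359939638090691611074409522919, 18137, 55913172385841971200000⟩, Q5.unp 3 1 117
    33281349908873617937424940182893426234862888276984661636),
  (⟨Q5.unp 51 25 59
    22429731512701955733081908158467215145711979713259067594029966613167453504191964661624483297229855445, Q5.unp 1343 671 9
    12861206503619943652941441471, 955, 157224005716377600000⟩, Q5.unp 3 1 117
    33277968517091016421879306416365367396751148210632669165),
  (⟨Q5.unp 20734273 10367136 59
    241885533560776961495238617530222746632715970804575140367255142135419574821693322163115061113510468894351645184740750538898266319378543211291508841786213772256658029147105732648227639168734823785492760453532975211802032832773413811616369396906550895094539013941331699160622078878897401084848926427863498889194183992109876681052733596363087450986667975607159476641847356436572396273445406544140626611196063025784014372885106825766532, Q5.unp 17789 8894 10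
    2293209248933852330726191611401710453792638, 12750, 34795895003335065600000⟩, Q5.unp 3 1 117
    26153735342253991084508029626065171492796024330417932488),
  (⟨Q5.unp 8183809 4091904 59
    365884255043912117656995633632484272461217950682360654217789931569815405516824424969509550140660870016596295475778784883122963916121307802458361674300420304927329467582638999792883795407456307522603857675357058182523483232781379343018090676885899316503218547062030964050908438297623143739093423623630766751236633894419192142099105097273966055100837426655845008585166599610216613299816200200086834590311275726, Q5.unp 648203 324101 11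
    5722856441504757840476418275036648253680169456399343600683665872, 422710, 31275178119652519084032000⟩, Q5.unp 3 1 117
    40398820324834287930005804241976278538548130020776879929),
  (⟨Q5.unp 3481921 1740960 59
    46375236921592935461211824881502027574583466529574849104175826841049911774563352925622192063000518038292846180875684517317777426400806317591232203599143642162492956762908046663164634839865167160290027217471424211312423170968264310463483548216996243675159555879781720459054467524074776922538795765886175215650829918876178025359394241416204876728598145990024424587591160705669768726352058, Q5.unp 1858953 929476 12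
    346020652358376589962248953932056100289800231563368387894531358856217, 1145993,
  257860887803282245799116800⟩, Q5.unp 3 1 117
    55635857117435172363081670065217275746255082770793327089),
  (⟨Q5.unp 2350945 1175472 59
    4001990415941704575643568046272419176261133444416434433765199448745210557606875159498776448068276531483366237931088435405009520635796750123238916571530966806332442523862727021551142516317734903928399200127185484819428593667076207229065186905604091567762490850418178995176130264561869446058218812774071946921496524262461702244844609960248720258330939827070870831008254510953065, Q5.unp 1098093 549046 13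
    2440156948425664717328629207014940340417450973896986793262699382694557369901371, 871301,
  127816077542644379182694400⟩, Q5.unp 3 1 117
    40398801771535149741273468433606223304058885899996107614),
  (⟨Q5.unp 387073 193536 59
    239196225543174364462119409017021157284853470454760274294444735610043083052855456119102446012217388470847314050876224973777993104916139368577363928671230807584219000148802417367158757259180651580004956628504892353759864620030615682361268987185911553608306508845432912962398524806695349363031238934447307867206764089492122159029986, Q5.unp 523 261 14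
    102633165282012735010190850914453739731, 509, 39631489500060057600⟩, Q5.unp 5 2 117
    3009265538112932011715379473782856573560059304516629144367466028779726790393257813),
  (⟨Q5.unp 23538817 11769408 59
    430787692656121975459490275702230200125286301257108265083145445618642195059726649378058573405418069676405100773845208084198540678387448857049267442409130575876220163055751234182629536110899904993028026150990201294811729561169895576326867423215228880446604269541749470794495697905320354226854849624323910631555141924297916652007063622712850412627013309556087199054632046085738231348784033064847939532146170288159899688516790330755776388, Q5.unp 3661 1830 15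
    148491659042671442710807281281529278657287776488079440, 1488, 271776050800282828800⟩, Q5.unp 3 1 117
    40388659829043809752970415741744600538184330052175258738),
  (⟨Q5.unp 6297697 3148848 59
    70907878922125266879792041714052038832164880724885535533032497744561303631848448162556332871603122480662359954131184259366175423559721261496512706330666100241092761330623548193745615110588929381180775228473375541178280660880054894280589388016716392646191884875279844730172252239375590951637169193165496631419846410289897756491699014183550007461619311693459522415050087993024547978273969713665659469032, Q5.unp 535469 267734 16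
    24922474301312020173198130928388413305219282968370789750308028557770548134516458907849063022,
  189543, 4997304599449238441164800⟩, Q5.unp 3 1 117
    26153737034939694792243761945611109895452954104292886892),
  (⟨Q5.unp 7125409 3562704 59
    103454161234840581121027431063767389508102212636767666686827070593545870815534361632706751250168287842844888198356070126034188295793634001333590853159342863362368004231886988779146487414658230787035905549968561204831918513080464847375183884659435335740113469742986892140580482436517747846851582094582428103997605171871414484937319727898611829903395925463596544807312604954257521738370319424533468846692331, Q5.unp 837415 418707 17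
    48977021858549689690486419522459745174156854145631764241626182538861053161336808095654545728267905210, 408369, 23164805716188360582758400⟩, Q5.unp 3 1 117
    40402519552234106989654927588974250325518455709306485999),
  (⟨Q5.unp 155521 77760 59
    1033940255428049110810545210988437469917443799990244347199754758660233608742384402121941313843153947915090493828935796231990653354810124451860995956876802040511476006586142287918959698289606058612033466489112437342384505896708130704811609259876844772698330480539717399436292219546671288123905895778296768079, Q5.unp 7470805 3735402 18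
    2835709326749091778155777177976669191633365040623117155398609956349952448866994412165708058226426919158404147585574946990880, 2635857, 918779129024093564593766400⟩, Q5.unp 3 1 117
    33308401044180831337554926141194029933958912346101723828),
  (⟨Q5.unp 11198305 5599152 59
    39715060203743640324685912532431501348509536110891209736875544623489772841812749136035974157001207941125635751065944070412281586062989492798272000836936052456326133168955765511153472956741367261932211334529734155967281828321224351690304564049819818577851015462686427366433199906386276585437886023930807906115947038560124300559786539885978615361331295875910766093116543910440161966469105695584931528944909304444732614, Q5.unp 7763599 3881799 19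
    15972445762179445650638469396492146490106907339175349605938283317412964126241234365924160464301873096445800682479388356135044890922, 4049256, 2123955785392792380584755200⟩, Q5.unp 3 1 117
    33277968517221606836523049745479854310247108422530256960),
  (⟨Q5.unp 3246913 1623456 59
    751170410659880168635966975151486078172845154394174587294246778191708359598496722873028338219508588169987837248892691808762681234534799623846317318676106134445973376360031757993363506865742600835072687412044787339059092499767532447182542447330108370567680963927595461920810361275326858098839405908670524317473555063795676841351655774946732699287476046466781603941823324917287865903727, Q5.unp 16935 8467 20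
    957178301414739421465735974129320802516326879515416806200569261059405757807431059867,
  11099, 16722614664183575347200⟩, Q5.unp 3 1 117
    33277968516933914079469961341767846530611042266300444823),
  (⟨Q5.unp 5469121 2734560 59
    17222824918404492207313859997765851908789667791298295899322539248797899339948967818592658160659640419529997342535450857796457317559730012093284080395434043869339471827892151323108247261166910257750645399331142315621735035992828071057665180133943042150660027758460473197261472202937033992513936605215498787135731874706995426706327826500790525269045984579018870077649261671545532814600162984160834521, Q5.unp 8233 4116 21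
    6512812443756003132958085755165005313892363362043262147791486742559275677035421881, 5186,
  3977628859667054592000⟩, Q5.unp 3 1 117
    33277968516933898888006103815432559883296389908233517590),
  (⟨Q5.unp 5750785 2875392 59
    333326269315494976047825682608467029586596813551626572456804859328740143535311165847873166545594057117550064741288958374363642471275506819473707416639821769191381235632284276222932715862960563285873563659879959286755670694324731194855744350986534224087549412087249744867009988149897210510584945212114676289607078913206555476017006386063849599896604198300252031380683029104732362312749429881842685170, Q5.unp 6711 3355 22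
    595820068191910446324982691811364598415987207200117310053158935406751106092882590684, 3355,
  2035217543217610752000⟩, Q5.unp 3 1 117
    33274587659486935554542632395117123609762522057461545255),
  (⟨Q5.unp 5750785 2875392 59
    333326269315494976047825682608467453546789130704752665318540400174648099584339942871087875741232116567395733563199245311401821216431276578976424240380080381601244385917517432856361962450174617446024959079299379215557598245653258836618858946722422674699883982471819945568863995737396850543653536469106745449736064548060250131629924468473580915880558376961018833184525188713844437840440384311867029704, Q5.unp 129 64 23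
    1378439855949909795338980832930724453548667597421, 58, 606622218544742400⟩, Q5.unp 3 1 117
    33277967507187050360261433195856646907183151279446884382),
  (⟨Q5.unp 6275233 3137616 59
    57428995831340672517834578328818013041023811624296428592904409611808162382735994958575987781870086266483392251713168334229660164479381217911110458176817656982063810676973483975750714607319662376636955517870922149258178522025650524187711448085977763091172891995628298478034241398017826077621359144571877288522459968122586720508338967260360383587772138168287356726395766494807104936286874788886156238343, Q5.unp 9 4 24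
    27140820271810394034379, 4, 4648446119116800⟩, Q5.unp 3 1 117
    10906559018728027724322610229225973472819740446437142296),
  (⟨Q5.unp 7869313 3934656 59
    36244557576555202475097813517257093358635295873600476409472646709384365489636752569504968848804089045325138227156219088472641974500758974766698012286356264393635675618067375896903293216575301851418223992994216248655722375630712993337782777340343416476980937589535370508158660812828119861011888818898216802497125039550028735748483457894650020256448779478321936691526157336468874779241615171667250596863019577, Q5.unp 23 11 25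
    7921253934468702891699134712812866, 16, 83672030144102400⟩, Q5.unp 3 1 117
    33518089069258963544143517457470578584591566913017241586)]

/-- the levels -/
noncomputable def lv6 : List Lev := lc.map Prod.fst

/-- the degree -/
def cd6 : List ℤ :=
  [0, 0, 314496, -314496, -1663200, 0, -432432, 432432, 1729728, -1729728, -3459456, -1729728, 1667952, -1667952,
  61776, 61776, -494208, 1663200, -133056, -1667952, -1734480, -2223936, 2038608, -1903824, 1910304, 3999456]

/-- the quadratic form -/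
noncomputable def zq : List (List ℤ) := [
  Q5.unp 3 1 26
    1270932914164,
  Q5.unp 3 1 25
    423644304721,
  Q5.unp 1349673193362232379276889 674836596681116189638444 24
    850054260486636724642910965638667099157311680678449139375248439950155906133170051515442613133879320767296171416266963514536473698220876279303268560040356919300821499895039080537075235813944303912872500937347200444933275641805936026268143608592284004692240185042122335619110389509806792865179617860961950667604918082745883672971639320781783935422561100209767088897757111538025543312011340799491950698239392939054205144132576197275410541318586073678222226757842931567066292707069308378634542858516750804455035663032418268767350377282964395310663394109697444228722626925663469429728,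
  Q5.unp 1481237067238814398102431 740618533619407199051215 23
    2781026447838828545677389163425685575439143083480878515958684867031906400851006403000408304793108040021983693278770614802289293114504483142861636069485424589393081406308501353109541767033128082306179223050159950068297709341853124493410443396588969193343421188364118927612576180996852903636196873564844963256638910328254431459070496153424472947487438839770061065827089610665356429734246822385044381508860104547749416852121058723491216315267563474232986889799854944500298097546302352294853560129564377387473946977468001299211597216596065898979922684861616507,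
  Q5.unp 835303355381222084855963 417651677690611042427981 22
    11385831269823894844540315108554338185188689767515405586551489909895359983267492344756498467297754595314134247411156727335027869110567179320478585492011611801144829630820403947121205958069784522312004206529663520529968284856356425234674030778625686277091622219768799427731322686395232409319454350026316908843122918978576698843084728281345515582286226935662220356236516233429651382233355451549385719176219245005946606012082145297764389694920015294132903256555934933860421254235759718249733322517517802609446621938510933956353318,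
  Q5.unp 3 1 21
    5230176601,
  Q5.unp 652998992395969343755651 326499496197984671877825 20
    116134391269987363375664968238644701981863785232888605063023202315255250350762958082600691187143820934528247997820077667897342923534288622870929390431303345537828909907421292057408849715201069991880641933699350744026896403906433180193191155944995601858897939596672031568577621398345241438392373949139292546720041430547424712025473573870089834513467154280264099351596463172372587979426914304261091444324696463994665743754565709551003693142957173924527969487327712286408864393132,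
  Q5.unp 840830337792807140563229 420415168896403570281614 19
    17261581894957145415551038010631631208600788974625691040723244528575634697398824782976351380381401378457088126438491896862059979223885465842070119046451165662930025611764978422912227884166905993326142958778611166267773189673792502271325557259417338302420170736473375213261752222115689649292139661861893818280433099381969460526165477063877518726075609243535227201453528339945798501332691330418596240152109576210392527931765082282875346205093228339664034002,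
  Q5.unp 1875585583612911127610515 937792791806455563805257 18
    46890520484984785977886512252322530528268362484364889502356657960755355522760586934830013397719401744069647028740279269616913744108989022346674924517482096014809803118091741175686842213046881930544159862182602327901422246864579181087689443106532431350808950840281115992329942570282487562087740775216803601806574129019428152743105917607168938314186614230068767667791814155051084353408511403410898652676593749746046723887332470744999808233,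
  Q5.unp 2241499524697545370812573 1120749762348772685406286 17
    496804290986334991365071637099657492851654943087393232776573796447174562615615519750080459862357426714491785550269137840488106381984343716333365816423761310689327169297993602469590123238822887428801550535956400835520172460259043632409256491658519011744683183803671973679346220806639388562649775977835252844925709700068434762286451923332511925894260508790405990660339527170929053352448232143266235289085189902753625,
  Q5.unp 756914696239316598099721 378457348119658299049860 16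
    5411883188817024153952027596677790125210572873653501323587509461523015665382649275910788139930491071309545492557031373594987907859728848794376336729623983200079620208361026594021931647539040974148762804362837797071463353045315604365205979356079569720895015586851079987328090084178899651764353753193484987370202329761532808800110238225069486543710328479915338587102436975285703473054,
  Q5.unp 562214700679498973552791 281107350339749486776395 15
    107540186628434533132551235614267707821181080489605536999662255094169185453196069700946384374456254053855589565893069672139228997811891554065237537887343029055221187197350940232176177634607005856285453057125221051266438631521947185913593007896916110021027459839309492424268075650191233205067983796771432717765760495353070546956690206846586240613620159173750,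
  Q5.unp 2060383245205217814362423 1030191622602608907181211 14
    14074449712914496711328430220966769855651717218718118550448664429818114852710985190707709725346527371558425577717680460839035722862569283806662400390501217709699187676628904558685661330665198980608623217864773091668670820720590506792632774918346497082089156644623305664263219432962310700035503888454111536278440465320126278184180060008935801,
  Q5.unp 1358036387066064500410979 679018193533032250205489 13
    16028449979501335826780126052072354873533167566624126934760309223187317055139480783968581411894129065288415243434884263606814207191357944335547425543099911538848356719452809200385174750608608264544689918440368768793788057316795562608001388428288199780046359984413342542583611263690803297484880029703856227365789668,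
  Q5.unp 857981443543282046882311 428990721771641023441155 12
    62870517600737305138945988321000478605340346540741150694263621601546099863977976790645279899914472452309384060226926813422526965673560660376081892945013605096279648300710397558362375561434388235873372591202063824163922031699396737698105659635169438153410946529941456916561963423455731756,
  Q5.unp 1019227969974931642760429 509613984987465821380214 11
    475711373903603767210724811998596968083678224639903587158414953745584307271088921333645333489938332583215883016143255420040523757049486633197251997354817730376958664076146762020820737131953815838827542090371905100285125026218793454733571373171622318323084625762116,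
  Q5.unp 2080384659925185844343149 1040192329962592922171574 10
    1518575635681636266344614455946624440714233985639623450912762446503450060781596376188546575240219995242057992755752848479290778201870250966599201975515577243592272937972781781943790111544843804696529555470244649845675949895465328463291681139997,
  Q5.unp 1104732279612631508095579 552366139806315754047789 9
    1172634983291242778152963246467887921642412208211081920699622820972066822983484772232427022757974535534959554507479991461581526340354898623641417993890022552036164314094727929654946137358196196456548964371128572779727,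
  Q5.unp 592640276902538221854457 296320138451269110927228 8
    5365941471112919480805009669825241755674835811387755539640881439692009871748273950727008332768056583191383834509499798155306300982121546933221576916592598279919559685810008269657812087445094,
  Q5.unp 1105768801407331346140571 552884400703665673070285 7
    1431983108113100277269659409641362332325145271482276081608428724635909981957308293706866096963719826376199758903656729963417952855753915821149615708076391374371089140864,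
  Q5.unp 1098320011485223628929583 549160005742611814464791 6
    680459762481788369345810387290756673319077758464338423710196519132218538570548137452179217398032682903533670319347701323768492444459410598208591,
  Q5.unp 1000034901251392631997349 500017450625696315998674 5
    361287559325000146815256803866403407287700456668388798725942560459192789149038330073781274715456397129144951408491960921,
  Q5.unp 882989343050299614885435 441494671525149807442717 4
    456754224275144001495585016732816524635618690522127463064736325491078509684948444686229784555521,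
  [-124226878728365894346762, 317801619472552114168232, -75816025185032247572364],
  [-90765283475360986468483, 189999990417360352637644],
  [198505795706376536256240]]

/-- the products of the rows of the double cover and of the triple cover -/
noncomputable def gens : List (List ℤ) := [u1, v2, u7].flatMap fun r => Cv.lv.map fun a => mulL r a.v

theorem ep_chk : ∀ t < 59, nth ep t * nth ep t = 1 ∧ (t ≠ 42 → nth v1 t = nth ep t * nth u1 t ∧
    nth u2 t = nth ep t * nth v2 t ∧ nth v7 t = nth ep t * nth u7 t) := by decide +kernel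

theorem van_chk : allL (fun a => decide (nth a.v 42 = 0)) Cv.lv = true := by decide +kernel

private noncomputable def _root_.Cfsg.Agent.LsF.fb71cd8_33 : {f // @Cfsg.Agent.TAB.Eng.allL = f} := ⟨_, by first | (delta Cfsg.Agent.TAB.Eng.allL; rewrite [Cfsg.Agent.LsF.cond_eq]; exact rfl) | exact rfl⟩
private noncomputable def _root_.Cfsg.Agent.LsF.fb71cd8_34 : {f // @Cfsg.Agent.MO.S.F6.Q5.bd = f} := ⟨_, by first | (delta Cfsg.Agent.MO.S.F6.Q5.bd; rewrite [Cfsg.Agent.LsF.fb71cd8_33.2, Cfsg.Agent.LsF.and_eq, Cfsg.Agent.LsF.natAbs_eq, Cfsg.Agent.LsF.length_eq]; exact rfl) | exact rfl⟩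
private noncomputable def _root_.Cfsg.Agent.LsF.fb71cd8_35 : {f // @Cfsg.Agent.MO.S.F6.Q5.pz = f} := ⟨_, by first | (delta Cfsg.Agent.MO.S.F6.Q5.pz; rewrite [Cfsg.Agent.LsF.iadd_eq, Cfsg.Agent.LsF.imul_eq]; exact rfl) | exact rfl⟩
private noncomputable def _root_.Cfsg.Agent.LsF.fb71cd8_36 : {f // @Cfsg.Agent.MO.S.F6.Q5.sa = f} := ⟨_, by first | (delta Cfsg.Agent.MO.S.F6.Q5.sa; rewrite [Cfsg.Agent.LsF.natAbs_eq]; exact rfl) | exact rfl⟩
private noncomputable def _root_.Cfsg.Agent.LsF.fb71cd8_37 : {f // @Cfsg.Agent.MO.S.F6.Q5.dz = f} := ⟨_, by first | (delta Cfsg.Agent.MO.S.F6.Q5.dz; rewrite [Cfsg.Agent.LsF.iadd_eq, Cfsg.Agent.LsF.imul_eq]; exact rfl) | exact rfl⟩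
private noncomputable def _root_.Cfsg.Agent.LsF.fb71cd8_38 : {f // @Cfsg.Agent.MO.S.F6.Q5.linF = f} := ⟨_, by first | (delta Cfsg.Agent.MO.S.F6.Q5.linF; rewrite [Cfsg.Agent.LsF.fb71cd8_33.2, Cfsg.Agent.LsF.fb71cd8_34.2, Cfsg.Agent.LsF.fb71cd8_35.2, Cfsg.Agent.LsF.fb71cd8_36.2, Cfsg.Agent.LsF.fb71cd8_37.2, Cfsg.Agent.LsF.nadd_pat, Cfsg.Agent.LsF.nmul_pat, Cfsg.Agent.LsF.and_eq, Cfsg.Agent.LsF.map_eq, Cfsg.Agent.LsF.instIDecEq_eq, Cfsg.Agent.LsF.length_eq, Cfsg.Agent.LsF.decide_eq]; exact rfl) | exact rfl⟩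
private noncomputable def _root_.Cfsg.Agent.LsF.fb71cd8_39 : {f // @Cfsg.Agent.MO.S.Cov2.mulL = f} := ⟨_, by first | (delta Cfsg.Agent.MO.S.Cov2.mulL; rewrite [Cfsg.Agent.LsF.imul_eq]; exact rfl) | exact rfl⟩
private noncomputable def _root_.Cfsg.Agent.LsF.fb71cd8_41 : {f // @Cfsg.Agent.MO.S.F6.gens = f} := ⟨_, by first | (delta Cfsg.Agent.MO.S.F6.gens; rewrite [Cfsg.Agent.LsF.fb71cd8_39.2, Cfsg.Agent.LsF.map_eq, Cfsg.Agent.LsF.flatMap_eq]; exact rfl) | exact rfl⟩
private noncomputable def _root_.Cfsg.Agent.LsF.fb71cd8_42 : {f // @Int.subNatNat = f} := ⟨_, by first | (delta Int.subNatNat; rewrite [Cfsg.Agent.LsF.nsub_pat]; (try delta Int.negOfNat.match_1); (try delta Nat.casesOn); exact rfl) | exact rfl⟩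
private noncomputable def _root_.Cfsg.Agent.LsF.fb71cd8_43 : {f // @Cfsg.Agent.MO.S.F6.Q5.unp = f} := ⟨_, by first | (delta Cfsg.Agent.MO.S.F6.Q5.unp; rewrite [Cfsg.Agent.LsF.fb71cd8_42.2]; exact rfl) | exact rfl⟩
private noncomputable def _root_.Cfsg.Agent.LsF.fb71cd8_44 : {f // @Cfsg.Agent.MO.S.F6.lc = f} := ⟨_, by first | (delta Cfsg.Agent.MO.S.F6.lc; rewrite [Cfsg.Agent.LsF.fb71cd8_43.2, Cfsg.Agent.LsF.ineg_pat]; exact rfl) | exact rfl⟩
theorem lc_ok : frcM gens (fun g => allL (fun a => decide (lin a.2 g = a.1.v)) lc) = true := by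
  rw [TAB.Glue.frcM_eq]
  exact Q5.allL_of fun a ha => decide_eq_true (Q5.linF_spec (3 ^ 60) 59 (2 ^ 50) (2 ^ 50) Prod.snd (fun a => a.1.v)
    (by ((try (rewrite [Cfsg.Agent.LsF.fb71cd8_38.2, Cfsg.Agent.LsF.fb71cd8_41.2, Cfsg.Agent.LsF.fb71cd8_44.2, Cfsg.Agent.LsF.npow_pat])); decide +kernel)) a ha)

private noncomputable def _root_.Cfsg.Agent.LsF.fb71cd8_45 : {f // @Cfsg.Agent.MO.S.F6.Q5.get = f} := ⟨_, by first | (delta Cfsg.Agent.MO.S.F6.Q5.get; rewrite [Cfsg.Agent.LsF.fb71cd8_43.2, Cfsg.Agent.LsF.fb71cd8_35.2, Cfsg.Agent.LsF.and_eq, Cfsg.Agent.LsF.iadd_eq, Cfsg.Agent.LsF.toNat_eq, Cfsg.Agent.LsF.instIDecEq_eq, Cfsg.Agent.LsF.decide_eq]; exact rfl) | exact rfl⟩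
private noncomputable def _root_.Cfsg.Agent.LsF.fb71cd8_46 : {f // @Cfsg.Agent.MO.S.F6.Q5.ml = f} := ⟨_, by first | (delta Cfsg.Agent.MO.S.F6.Q5.ml; rewrite [Cfsg.Agent.LsF.imul_eq]; exact rfl) | exact rfl⟩
private noncomputable def _root_.Cfsg.Agent.LsF.fb71cd8_47 : {f // @Cfsg.Agent.MO.S.F6.Q5.okF = f} := ⟨_, by first | (delta Cfsg.Agent.MO.S.F6.Q5.okF; rewrite [Cfsg.Agent.LsF.fb71cd8_35.2, Cfsg.Agent.LsF.fb71cd8_45.2, Cfsg.Agent.LsF.fb71cd8_37.2, Cfsg.Agent.LsF.fb71cd8_46.2, Cfsg.Agent.LsF.fb71cd8_34.2, Cfsg.Agent.LsF.fb71cd8_36.2, Cfsg.Agent.LsF.fb71cd8_29.2, Cfsg.Agent.LsF.nmul_pat, Cfsg.Agent.LsF.icast_pat, Cfsg.Agent.LsF.and_eq, Cfsg.Agent.LsF.map_eq, Cfsg.Agent.LsF.imul_eq, Cfsg.Agent.LsF.instIDecEq_eq, Cfsg.Agent.LsF.decide_eq]; exact rfl) | exact rfl⟩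
private noncomputable def _root_.Cfsg.Agent.LsF.fb71cd8_48 : {f // @Cfsg.Agent.MO.S.F6.Q5.okG = f} := ⟨_, by first | (delta Cfsg.Agent.MO.S.F6.Q5.okG; rewrite [Cfsg.Agent.LsF.fb71cd8_47.2, Cfsg.Agent.LsF.nadd_pat]; exact rfl) | exact rfl⟩
private noncomputable def _root_.Cfsg.Agent.LsF.fb71cd8_49 : {f // @Cfsg.Agent.MO.S.F6.lv6 = f} := ⟨_, by first | (delta Cfsg.Agent.MO.S.F6.lv6; rewrite [Cfsg.Agent.LsF.fb71cd8_44.2, Cfsg.Agent.LsF.map_eq]; exact rfl) | exact rfl⟩
theorem lv_ok : okLev dat lv6 [] [] = true := Q5.okG_spec (3 ^ 50) 59 (2 ^ 40) (3 ^ 90) (by ((try (rewrite [Cfsg.Agent.LsF.fb71cd8_48.2, Cfsg.Agent.LsF.fb71cd8_49.2, Cfsg.Agent.LsF.npow_pat])); decide +kernel))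

theorem cd_ok : ∀ t < dat.n, nth (lin cd6 ((lv6.map Lev.v).reverse ++ [])) t = if t = 0 then (dat.N : ℤ) else 0 := by
  decide +kernel

private noncomputable def _root_.Cfsg.Agent.LsF.fb71cd8_50 : {f // @Cfsg.Agent.TAB.Eng.ipL = f} := ⟨_, by first | (delta Cfsg.Agent.TAB.Eng.ipL; rewrite [Cfsg.Agent.LsF.iadd_eq, Cfsg.Agent.LsF.imul_eq]; exact rfl) | exact rfl⟩
private noncomputable def _root_.Cfsg.Agent.LsF.fb71cd8_51 : {f // @Cfsg.Agent.TAB.Eng.ip = f} := ⟨_, by first | (delta Cfsg.Agent.TAB.Eng.ip; rewrite [Cfsg.Agent.LsF.fb71cd8_50.2]; exact rfl) | exact rfl⟩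
private noncomputable def _root_.Cfsg.Agent.LsF.fb71cd8_52 : {f // @Cfsg.Agent.MO.S.F6.Q5.lnz = f} := ⟨_, by first | (delta Cfsg.Agent.MO.S.F6.Q5.lnz; rewrite [Cfsg.Agent.LsF.fb71cd8_29.2, Cfsg.Agent.LsF.map_eq, Cfsg.Agent.LsF.imul_eq]; exact rfl) | exact rfl⟩
private noncomputable def _root_.Cfsg.Agent.LsF.fb71cd8_53 : {f // @Cfsg.Agent.MO.S.F6.zq = f} := ⟨_, by first | (delta Cfsg.Agent.MO.S.F6.zq; rewrite [Cfsg.Agent.LsF.fb71cd8_43.2, Cfsg.Agent.LsF.ineg_pat]; exact rfl) | exact rfl⟩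
theorem tr_ok : tr dat zq ((lv6.map Lev.v).reverse ++ []) = dat.N * (2834453710452237985476 * (20 : ℕ)) := by
  delta tr
  simp only [Q5.ip_lnz]
  (refine of_decide_eq_true ?_; (try (rewrite [Cfsg.Agent.LsF.fb71cd8_51.2, Cfsg.Agent.LsF.fb71cd8_52.2, Cfsg.Agent.LsF.fb71cd8_53.2, Cfsg.Agent.LsF.fb71cd8_49.2, Cfsg.Agent.LsF.imul_pat, Cfsg.Agent.LsF.icast_pat, Cfsg.Agent.LsF.lappend_pat, Cfsg.Agent.LsF.map_eq, Cfsg.Agent.LsF.reverse_eq, Cfsg.Agent.LsF.tail_eq, Cfsg.Agent.LsF.iadd_eq, Cfsg.Agent.LsF.instIDecEq_eq, Cfsg.Agent.LsF.decide_eq])); decide +kernel)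

theorem dfs_ok : dfs (leaf cd6 zq (6 * dat.N) 5 2834453710452237985476) (1000000 * dat.N) 4 lv6 [] 1000000 = true :=
  Q5.fast_spec (3 ^ 50) 4 (2 ^ 40) (by rewrite [Q5.lz_eq]; decide +kernel)

end Cfsg.Agent.MO.S.F6
end

-- part: MO/S/F6/Three
section
/-!
# `3.Fi22` : signed rows from the lattice of `TAB/F22/CovE` (helper13)

* `R3 M s w u` : `s * u` is a generalized character on which `M.z` acts by `w ^ 2`;
* `exists_s3` : a function `s` of absolute value one such that the 39 vectors of `TAB.F22.Cv.lv` are such rows.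
-/

set_option autoImplicit false
set_option maxRecDepth 100000

namespace Cfsg.Agent.MO.S.F6

open Cfsg Subgroup Cfsg.Agent.TAB.Eng Cfsg.Agent.TAB.Cov Cfsg.Agent.TAB.F22 Cfsg.Agent.TAB.F22.Cv
open Cfsg.Agent.Characters Cfsg.Agent.Characters.Core Cfsg.Agent.Characters.Brauer Cfsg.Agent.H447.CTab
open scoped ComplexConjugate

variable {Y : Type} [Group Y] [Fintype Y] (M : Md Y) {w : ℂ}

/-- a signed row of the triple cover -/
structure R3 (s : Y → ℂ) (w : ℂ) (u : List ℤ) : Prop where
  gen : IsGeneralizedCharacter Y fun y => s y * nth u (ty (M.π y))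
  sh : ∀ y, s (M.z * y) * nth u (ty (M.π y)) = w ^ 2 * (s y * nth u (ty (M.π y)))

omit [Fintype Y] in
theorem exists_o (hw : w ^ 3 = 1) : ∃ o : Y → ℂ, ∀ j : ℕ, o (M.z ^ j) = (w ^ 2) ^ j := by
  classical
  have h1 : orderOf M.z = 3 := by rw [← Nat.card_zpowers, ← M.ker, M.card]
  have h2 : ∀ a < 3, ∀ b < 3, M.z ^ a = M.z ^ b → a = b := fun a ha b hb =>
    pow_injOn_Iio_orderOf (h1 ▸ ha : a < _) (h1 ▸ hb : b < _)
  refine ⟨fun y => if y = M.z ^ 0 then (w ^ 2) ^ 0 else if y = M.z ^ 1 then (w ^ 2) ^ 1 else (w ^ 2) ^ 2, fun j => ?_⟩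
  rw [← pow_mod_orderOf M.z j, h1,
    pow_eq_pow_mod (a := w ^ 2) (n := 3) j (by rw [← pow_mul, mul_comm, pow_mul, hw, one_pow])]
  have h3 : j % 3 < 3 := Nat.mod_lt _ (by decide)
  generalize j % 3 = i at h3
  interval_cases i
  · exact if_pos rfl
  · exact (if_neg fun e => absurd (h2 1 h3 0 (by decide) e) (by decide)).trans (if_pos rfl)
  · exact (if_neg fun e => absurd (h2 2 h3 0 (by decide) e) (by decide)).trans
      (if_neg fun e => absurd (h2 2 h3 1 (by decide) e) (by decide))

omit [Fintype Y] in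
theorem pi_z (y : Y) : M.π (M.z * y) = M.π y := by
  rw [map_mul, show M.π M.z = 1 from (M.ker ▸ mem_zpowers M.z : M.z ∈ M.π.ker), one_mul]

/-- **the sign function** -/
theorem exists_s3 (hw : 1 + w + w ^ 2 = 0) :
    ∃ s : Y → ℂ, (∀ y, s y * conj (s y) = 1) ∧ ∀ a ∈ lv, R3 M s w a.v := by
  classical
  have hw3 : w ^ 3 = 1 := by linear_combination (w - 1) * hw
  have hz : M.z ∈ center Y := mem_center_iff.2 fun g => (M.comm g).symm
  have hn : ∀ c : ℂ, c ^ 3 = 1 → c * conj c = 1 := fun c hc => by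
    rw [Complex.mul_conj, Complex.normSq_eq_norm_sq, Complex.norm_eq_one_of_pow_eq_one hc three_ne_zero]
    simp
  have hj : ∀ j : ℕ, (w ^ 2) ^ j * w ^ j = 1 := fun j => by rw [← mul_pow, ← pow_succ, hw3, one_pow]
  have hj' : ∀ j : ℕ, ((w ^ 2) ^ j) ^ 3 = 1 := fun j => by rw [← pow_mul, ← pow_mul, ← mul_assoc, pow_mul', hw3, one_pow]
  obtain ⟨B, hB⟩ := exists_lift (n := 54) (by norm_num)
  obtain ⟨o, ho⟩ := exists_o M hw3
  let s : Y → ℂ := fun y => if 3 ∣ dat.ord (ty (M.π y)) then
    (if nth bb (ty (M.π y)) = 0 then 1 else be M B w y / nth bb (ty (M.π y))) else o (y * (y ^ 160161)⁻¹)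
  have h1 : ∀ y, ¬ 3 ∣ dat.ord (ty (M.π y)) → ∃ j : ℕ, y * (y ^ 160161)⁻¹ = M.z ^ j := fun y h => by
    obtain ⟨j, hj⟩ := exists_om M (reg_lift M y h).2.1.symm
    exact ⟨j, mul_inv_eq_of_eq_mul hj⟩
  have h2 : ∀ y, ty (M.π y) ∉ [35, 46, 55] → be M B w y = s y * nth bb (ty (M.π y)) := fun y hy => by
    by_cases h : 3 ∣ dat.ord (ty (M.π y))
    · simp only [s, if_pos h]
      split_ifs with h0
      · obtain ⟨j, h3⟩ := (be_val M hB hw y hy).1
        rw [h0, Int.cast_zero] at h3
        linear_combination (w ^ 2) ^ j * h3 - be M B w y * hj j + (1 : ℂ) * congrArg (Int.cast : ℤ → ℂ) h0.symm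
      · exact (div_mul_cancel₀ _ (Int.cast_ne_zero.2 h0)).symm
    · obtain ⟨j, h3⟩ := h1 y h
      obtain ⟨-, h4, h5⟩ := reg_lift M y h
      have h6 := (be_val M hB hw (y ^ 160161) (h4 ▸ hy)).2 (h4 ▸ h) h5
      have h7 := be_om_pow M (B := B) hw3 (y ^ 160161) j
      rw [← h3, inv_mul_cancel_right, h6, h4] at h7
      simp only [s, if_neg h, h3, ho]
      linear_combination (w ^ 2) ^ j * h7 - be M B w y * hj j
  have h3 : ∀ k : List ℤ, (∀ t < 59, 3 ∣ dat.ord t → nth k t = 0) → ∀ y,
      s (M.z * y) * nth k (ty (M.π y)) = w ^ 2 * (s y * nth k (ty (M.π y))) := fun k hk y => by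
    by_cases h : 3 ∣ dat.ord (ty (M.π y))
    · simp only [hk _ (ty_lt _) h, Int.cast_zero, mul_zero]
    · obtain ⟨j, h3⟩ := h1 y h
      simp only [s, pi_z, if_neg h]
      rw [om_pow', show M.z ^ 160161 = 1 by rw [show 160161 = 3 * 53387 from rfl, pow_mul, M.cube, one_pow], one_mul,
        mul_assoc, h3, ← pow_succ', ho, ho, pow_succ', mul_assoc]
  have h4 : ∀ k : List ℤ, Virt td (nth k) → (∀ t < 59, 3 ∣ dat.ord t → nth k t = 0) →
      IsGeneralizedCharacter Y fun y => s y * nth k (ty (M.π y)) := fun k hv hk => by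
    refine isGeneralizedCharacter_of_int (fun y g => ?_) fun χ hχ => ?_
    · have h4 : ty (M.π (g * y * g⁻¹)) = ty (M.π y) := by rw [map_mul, map_mul, map_inv]; exact td.conj _ _
      by_cases h : 3 ∣ dat.ord (ty (M.π y))
      · simp only [h4, hk _ (ty_lt _) h, Int.cast_zero, mul_zero]
      · obtain ⟨j, h3⟩ := h1 y h
        simp only [s, h4, if_neg h]
        rw [conj_pow, show g * y * g⁻¹ * (g * y ^ 160161 * g⁻¹)⁻¹ = g * (y * (y ^ 160161)⁻¹) * g⁻¹ by group, h3,
          mem_center_iff.1 (pow_mem hz j) g, mul_inv_cancel_right]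
    obtain ⟨c, hc, hc1, -⟩ := ODD.Red.exists_central hχ hz
    by_cases e : c = w ^ 2
    · have := finite_irr (G := Y)
      have := Fintype.ofFinite (IrrCharacter Y)
      refine ⟨_, Eq.trans ?_ (inner_sum_mu (gen_pi M hv) (H139.Cusp.isGeneralizedCharacter_pow
        (isGeneralizedCharacter_of_isCharacter (isIrr_isCharacter hχ)) 160161))⟩
      refine congrArg _ (Finset.sum_congr rfl fun y _ => ?_)
      by_cases h : 3 ∣ dat.ord (ty (M.π y))
      · simp only [hk _ (ty_lt _) h, Int.cast_zero, mul_zero, zero_mul]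
      · obtain ⟨j, h3⟩ := h1 y h
        have h5 := om_val M hc j (y ^ 160161)
        rw [← h3, inv_mul_cancel_right, e] at h5
        simp only [s, if_neg h, h3, ho]
        rw [h5, map_mul]
        linear_combination (nth k (ty (M.π y)) : ℂ) * conj (χ (y ^ 160161)) * hn _ (hj' j)
    · have h5 := MK.S7.inner_shift (fun y => s y * nth k (ty (M.π y))) hc
      simp only [pi_z, h3 k hk] at h5
      rw [show (fun y => w ^ 2 * (s y * nth k (ty (M.π y)))) = w ^ 2 • fun y => s y * (nth k (ty (M.π y)) : ℂ) from rfl,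
        classInner_smul_left] at h5
      exact ⟨0, mul_left_cancel₀ (sub_ne_zero.2 e) (by
        linear_combination c * h5 + w ^ 2 * classInner (fun y => s y * (nth k (ty (M.π y)) : ℂ)) χ * hn c (hc1 3 M.cube))⟩
  refine ⟨s, fun y => hn _ ?_, fun a ha => ?_⟩
  · by_cases h : 3 ∣ dat.ord (ty (M.π y))
    · simp only [s, if_pos h]
      split_ifs with h0
      · exact one_pow _
      · obtain ⟨j, h5⟩ := (be_val M hB hw y (good_of_dvd h)).1
        rw [show be M B w y / nth bb (ty (M.π y)) = (w ^ 2) ^ j by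
          rw [div_eq_iff (Int.cast_ne_zero.2 h0), ← h5, ← mul_assoc, hj, one_mul], hj']
    · obtain ⟨j, h5⟩ := h1 y h
      simp only [s, if_neg h, h5, ho, hj']
  obtain ⟨c, hc, rfl⟩ := List.mem_map.1 ha
  have h5 := allL_spec lc_chk c hc
  rw [okV, frL_eq, frL_eq] at h5
  have h6 := fun t (ht : t < 59) => allL_spec h5 t (List.mem_range.2 ht)
  simp only [Bool.and_eq_true, decide_eq_true_eq] at h6
  have h7 : ∀ y x, M.π x = M.π y → s x * nth c.1.v (ty (M.π y)) = s x * nth (lin c.2.1 (rowA ++ rowB)) (ty (M.π y)) +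
      be M B w x * nth (lin c.2.2 (rowA ++ rowB)) (ty (M.π y)) := fun y x hx => by
    rw [(h6 _ (ty_lt _)).1.1, Int.cast_add, Int.cast_mul, mul_add]
    by_cases h : ty (M.π y) ∈ [35, 46, 55]
    · simp only [(h6 _ (ty_lt _)).2 h, Int.cast_zero, mul_zero]
    · rw [h2 x (hx ▸ h), hx, mul_assoc]
  refine ⟨?_, fun y => ?_⟩
  · rw [funext fun y => h7 y y rfl]
    refine isGeneralizedCharacter_add (h4 _ (virt_lin _ virt_rows) fun t ht => (h6 t ht).1.2)
      (isGeneralizedCharacter_mul ?_ (gen_pi M (virt_lin _ virt_rows)))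
    have h8 := Suz6.gen_pz hz (om_three M) (ω := w ^ 2) (by linear_combination hw + w * hw3)
      (H139.Cusp.isGeneralizedCharacter_comp M.ρ hB.gen)
    rwa [show Suz6.pz M.z (w ^ 2) (fun h => B (M.ρ h)) = be M B w from funext fun y => by
      rw [Suz6.pz, be, ← pow_mul, show 2 * 2 = 3 + 1 from rfl, pow_succ, hw3, one_mul]] at h8
  · rw [h7 y _ (pi_z M y), h7 y y rfl, h3 _ fun t ht => (h6 t ht).1.2, ← be_om M hw3 y]
    linear_combination (-be M B w (M.z * y) * nth (lin c.2.2 (rowA ++ rowB)) (ty (M.π y)) : ℂ) * hw3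

end Cfsg.Agent.MO.S.F6
end

-- part: MO/S/F6/Main
section
/-!
# `6.Fi22` : the faithful characters of degree prime to `5` (helper13)

The products of three rows of `2.Fi22` with the 39 signed rows of `3.Fi22` span a lattice of full rank.

* `F6.gk5 : GK 5 6 Spor.Fi22 20`; `MO.S.fi22_6_5 : SmC 5 6 Spor.Fi22`.
-/

set_option autoImplicit false
set_option maxRecDepth 100000

namespace Cfsg.Agent.MO.S.F6

open Cfsg Subgroup Cfsg.Agent.TAB.Eng Cfsg.Agent.TAB.Cov Cfsg.Agent.TAB.F22 Cfsg.Agent.MO.S.Cov2 Cfsg.Agent.MO.S.F22T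
open Cfsg.Agent.Characters Cfsg.Agent.Characters.Core Cfsg.Agent.Characters.Brauer Cfsg.Agent.MO.S.Suz6
open Cfsg.Agent.TAB.Glue (frcM frcM_eq)
open Cfsg.Agent.Fischer.Fi23Class (K)
open Cfsg.Agent.R08.FiTwentyThree (pi zK ext)
open scoped ComplexConjugate

/-- the sign function of the double cover -/
theorem exists_s2 : ∃ s : K → ℂ, (∀ y, s y * conj (s y) = 1) ∧ ∀ u ∈ [u1, v2, u7], ∃ f : K → ℂ,
    IsGeneralizedCharacter K f ∧ (∀ y, f (zK * y) = -f y) ∧ ∀ y, ty (_root_.Cfsg.Agent.R08.FiTwentyThree.pi y) ≠ 42 → f y = s y * nth u (ty (_root_.Cfsg.Agent.R08.FiTwentyThree.pi y)) := by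
  have h1 : ∀ y : K, ∃ s : ℂ, s * conj s = 1 ∧ ∀ f u v, Rp f u v →
      nth v (ty (_root_.Cfsg.Agent.R08.FiTwentyThree.pi y)) = nth ep (ty (_root_.Cfsg.Agent.R08.FiTwentyThree.pi y)) * nth u (ty (_root_.Cfsg.Agent.R08.FiTwentyThree.pi y)) → f y = s * nth u (ty (_root_.Cfsg.Agent.R08.FiTwentyThree.pi y)) := fun y => by
    obtain ⟨s, h1, h2 | h2⟩ := exists_val y
    · exact ⟨s, h1, fun f u v h _ => (h2 f u v h).1⟩
    · refine ⟨s * nth ep (ty (_root_.Cfsg.Agent.R08.FiTwentyThree.pi y)), ?_, fun f u v h e => by rw [(h2 f u v h).1, e, Int.cast_mul, mul_assoc]⟩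
      rw [map_mul, map_intCast, mul_mul_mul_comm, h1, ← Int.cast_mul, (ep_chk _ (ty_lt _)).1, Int.cast_one, one_mul]
  choose s h2 h3 using h1
  obtain _ | ⟨⟨f1, a1⟩, _ | ⟨-, _ | ⟨⟨f2, a2⟩, _ | ⟨⟨f7, a7⟩, -⟩⟩⟩⟩ := seeds_ok
  refine ⟨s, h2, fun u hu => ?_⟩
  simp only [List.mem_cons, List.not_mem_nil, or_false] at hu
  rcases hu with rfl | rfl | rfl
  · exact ⟨_, a1.gen, a1.odd, fun y h => h3 y _ _ _ a1 ((ep_chk _ (ty_lt _)).2 h).1⟩
  · exact ⟨_, a2.gen, a2.odd, fun y h => h3 y _ _ _ a2 ((ep_chk _ (ty_lt _)).2 h).2.1⟩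
  · exact ⟨_, a7.gen, a7.odd, fun y h => h3 y _ _ _ a7 ((ep_chk _ (ty_lt _)).2 h).2.2⟩

variable {X Y : Type} [Group X] [Group Y] [Finite X] [Finite Y] {φ : X →* Spor.Fi22}

theorem kk_X (M : Cv.Md Y) (v : Cv 6 φ) (a : X →* K) (b : X →* Y) (ha : ∀ x, _root_.Cfsg.Agent.R08.FiTwentyThree.pi (a x) = φ x)
    (hb : ∀ x, M.π (b x) = φ x) (hi : ∀ x y, a x = a y → b x = b y → x = y) {y z : X} (h1 : a y = zK) (h2 : b y = 1)
    (h3 : a z = 1) (h4 : b z = M.z) {l : X → ℂ} (hl : Fl X l) : kk 5 ⊤ (center X) l = 20 := by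
  have := Fintype.ofFinite Y
  have hy : y ∈ center X := v.ker.le ((hb y).symm.trans (h2 ▸ map_one _))
  have hz : z ∈ center X := v.ker.le ((ha z).symm.trans (h3 ▸ map_one _))
  have h5 : l y = -1 := (fl_two hy (hi _ _ (by rw [map_mul, h1, ext.zz, map_one]) (by rw [map_mul, h2, one_mul, map_one]))
    (fun e => ext.zne (by rw [← h1, e, map_one])) hl).2
  have h6 : l z ^ 3 = 1 := by
    rw [pow_three, ← fl_mul hl hz hz, ← fl_mul hl hz (mul_mem hz hz), ← pow_two, ← pow_succ',
      hi (z ^ (2 + 1)) 1 (by rw [map_pow, h3, one_pow, map_one]) (by rw [map_pow, h4, M.cube, map_one]), fl_one hl]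
  have h7 : l z ≠ 1 := fun e => by
    have h7 := M.card
    rw [M.ker, ← h4, fl_inj hl hz e, map_one, zpowers_one_eq_bot, card_bot] at h7
    exact absurd h7 (by decide)
  have h8 : ∀ F : X → ℂ, (∀ x, F (y * x) = -F x) → (∀ x, F (z * x) = l z * F x) → Lo (center X) l F :=
    fun F e1 e2 c hc x => by
      have e3 : ∀ (j : ℕ) (x : X), F (z ^ j * x) = l (z ^ j) * F x := fun j => by
        induction j with
        | zero => intro x; rw [pow_zero, fl_one hl, one_mul, one_mul]
        | succ j ih => intro x; rw [pow_succ', mul_assoc, e2, ih, fl_mul hl hz (pow_mem hz j), mul_assoc]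
      obtain ⟨j, hj⟩ := Cv.exists_om M (x := b c) (y := 1) (((hb c).trans (v.ker.ge hc)).trans (map_one _).symm)
      rcases (ext.ker (a c)).1 ((ha c).trans (v.ker.ge hc)) with h | h
      · rw [hi c (z ^ j) (by rw [h, map_pow, h3, one_pow]) (by rw [hj, map_pow, h4, mul_one]), e3]
      · rw [hi c (y * z ^ j) (by rw [h, map_mul, map_pow, h3, h1, one_pow, mul_one])
          (by rw [hj, map_mul, map_pow, h4, h2, mul_one, one_mul]), mul_assoc, e1, e3, fl_mul hl hy (pow_mem hz j), h5]
        ring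
  obtain ⟨s, s1, s2⟩ := exists_s2
  obtain ⟨t, t1, t2⟩ := exists_s3 M (w := l z ^ 2) (mul_left_cancel₀ (sub_ne_zero.2 h7) (by
    linear_combination (l z ^ 2 - l z + 1) * h6))
  have h9 : ∀ g ∈ gens, OV td φ (fun x => s (a x) * t (b x)) l (nth g) := fun g hg => by
    obtain ⟨u, hu, hg⟩ := List.mem_flatMap.1 hg
    obtain ⟨c, hc, rfl⟩ := List.mem_map.1 hg
    obtain ⟨f, f1, f2, f3⟩ := s2 u hu
    have e : sf td φ (fun x => s (a x) * t (b x)) (nth (mulL u c.v)) =
        (fun x => f (a x)) * fun x => t (b x) * nth c.v (ty (M.π (b x))) := funext fun x => by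
      rw [sf, nth_mulL, td_ty, Pi.mul_apply, hb, Int.cast_mul]
      by_cases h : ty (φ x) = 42
      · rw [h, of_decide_eq_true (allL_spec van_chk c hc), Int.cast_zero, mul_zero, mul_zero, mul_zero, mul_zero]
      · rw [f3 _ (ha x ▸ h), ha, mul_mul_mul_comm]
    rw [OV, e]
    refine ⟨isGeneralizedCharacter_mul (H651.isGeneralizedCharacter_comp_hom a f1)
      (H651.isGeneralizedCharacter_comp_hom b (t2 c hc).gen), h8 _ (fun x => ?_) fun x => ?_⟩
    · simp only [Pi.mul_apply, map_mul a, map_mul b, h1, h2, f2, one_mul, neg_mul]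
    · simp only [Pi.mul_apply, map_mul a, map_mul b, h3, h4, one_mul, pi_z, (t2 c hc).sh]
      linear_combination l z * f (a x) * (t (b x) * nth c.v (ty (M.π (b x)))) * h6
  refine kk_dfs v mass rfl (TD.ty_eq_zero mass (by decide) rfl (by decide)) (s := fun x => s (a x) * t (b x))
    (fun x => by rw [map_mul, mul_mul_mul_comm, s1, t1, one_mul]) hl (fun c hc => ?_) lv_ok (by decide) cd_ok tr_ok dfs_ok
  obtain ⟨d, hd, rfl⟩ := List.mem_map.1 hc
  have h := lc_ok
  rw [frcM_eq] at h
  exact of_decide_eq_true (allL_spec h d hd) ▸ ov_lin v.ker d.2 h9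

/-- **`6.Fi22`** has 20 characters of degree prime to `5` over a faithful character of the centre -/
theorem gk5 : GK 5 6 Spor.Fi22 20 := fun X _ _ φ v l hl => by
  obtain ⟨L, _, q, ρ, hq, hk, hρ, vL⟩ := E62C.cv_quot (a := 2) (b := 3) v
  obtain ⟨L', _, q', ρ', hq', hk', hρ', vL'⟩ := E62C.cv_quot (a := 3) (b := 2) v
  have := Finite.of_surjective q hq
  have := Finite.of_surjective q' hq'
  obtain ⟨e, he⟩ := iso vL
  obtain ⟨e', he'⟩ := MK.S6.exists_model ρ' vL'.surj vL'.ker vL'.card vL'.perf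
  have := Finite.of_surjective _ e'.surjective
  have ha : ∀ x, _root_.Cfsg.Agent.R08.FiTwentyThree.pi (e.toMonoidHom.comp q x) = φ x := fun x => (he _).trans (hρ x)
  have hb : ∀ x, Cv.mdK.π (e'.toMonoidHom.comp q' x) = φ x := fun x => (he' _).trans (hρ' x)
  obtain ⟨y, hy⟩ : ∃ y, e.toMonoidHom.comp q y = zK := (e.surjective.comp hq) zK
  obtain ⟨z, hz⟩ : ∃ z, e'.toMonoidHom.comp q' z = Cv.mdK.z := (e'.surjective.comp hq') _
  refine kk_X Cv.mdK v _ _ ha hb (fun x x' h h' => mul_inv_eq_one.1 (orderOf_eq_one_iff.1 (Nat.eq_one_of_dvd_coprimes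
    (show Nat.Coprime 3 2 by decide) (hk ▸ q.ker.orderOf_dvd_natCard ?_) (hk' ▸ q'.ker.orderOf_dvd_natCard ?_))))
    (y := y ^ 3) (z := z ^ 4) ?_ ?_ ?_ ?_ hl
  · rw [MonoidHom.mem_ker, map_mul, map_inv, e.injective h, mul_inv_cancel]
  · rw [MonoidHom.mem_ker, map_mul, map_inv, e'.injective h', mul_inv_cancel]
  · rw [map_pow, hy, pow_three, ext.zz, mul_one]
  · obtain ⟨j, hj⟩ := Cv.exists_om Cv.mdK (y := 1) ((hb y).trans ((ha y).symm.trans (hy ▸ ext.mapz.trans (map_one _).symm)))
    rw [map_pow, hj, mul_one, ← pow_mul, pow_mul', Cv.mdK.cube, one_pow]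
  · have h := pi_z Cv.mdK 1
    rw [mul_one, ← hz, hb, map_one, ← ha] at h
    rcases (ext.ker _).1 h with h | h <;> rw [map_pow, h]
    · exact one_pow _
    · rw [show 4 = 2 * 2 from rfl, pow_mul, pow_two zK, ext.zz, one_pow]
  · rw [map_pow, hz, pow_succ, Cv.mdK.cube, one_mul]

end Cfsg.Agent.MO.S.F6

/-- **`6.Fi22`, `p = 5`** -/
theorem Cfsg.Agent.MO.S.fi22_6_5 : Cfsg.Agent.MO.S.SmC 5 6 Cfsg.Spor.Fi22 :=
  Cfsg.Agent.MO.S.Fi22.fi22_6_5_of Cfsg.Agent.MO.S.F6.gk5
end

private theorem dce_899acdad05a1 : _root_.True := by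
  try have : _root_.True := by simp only [_root_.Cfsg.Agent.MO.S.HS.nh.eq_1]
  try have : _root_.True := by simp only [_root_.Cfsg.Agent.MO.S.HS.ty.eq_1]
  try have : _root_.True := by simp only [_root_.Cfsg.Agent.MO.S.HS.s.eq_1]
  try have : _root_.True := by simp only [_root_.Cfsg.Agent.MO.S.Co2.okW.eq_1]
  exact _root_.True.intro
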